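import Groth.Prelude.Def_AlgSpModX
import Groth.Prelude.Def_Coh
import Mathlib.AlgebraicGeometry.AffineScheme
import Mathlib.Algebra.Module.Projective
import Groth.Agent.AlgSp.K612.ModPush
import Groth.Agent.AlgSp.K612.ProjChart
import Groth.Agent.AlgSp.K612.PullQc
import Groth.Agent.AlgSp.K612.PullEx
import Groth.Agent.AlgSp.K612.ResEt

/-!
# Refutation of the frozen statement S10255 (formal proof by helper261, landed here by helper373 for job 580)

`Groth.Agent.Refuted.S10255.refuted` is the negation of the frozen statement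
`AlgSp.GrothFrozen.S10255` (the theorem `AlgSp.projective_sections_pullModEt_of_representable`) in universe `0`, all
binders as in the template.

Mechanism: `hproj` speaks only about étale `V → Y` for which the module has a `ZarCompanion`, whose sections are
`u`-small, while `IsQuasicoherent` for modules valued in `Type (u + 1)` allows generators indexed by `Type (u + 1)`.
Counterexample: `Spec (ℤ/4) → Spec ℤ` and the quasi-coherent module attached to `ℤ[1/2]^(I) × ℤ/2`, `I = Cardinal.{0}`:
no nonempty étale `V` has a companion, and the inverse image is `(ℤ/4)/2`, which has a companion and is not projective.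
-/

set_option autoImplicit false

universe w v d u

open CategoryTheory CategoryTheory.Limits AlgebraicGeometry Opposite TensorProduct

namespace Groth.Agent.Refuted.S10255

open Groth.Agent.Etbase.FFExact K644.Site K644.Psh K644.Alg K644.Colim K644.Exact K644.Free K644.Pres

section alg

variable (A : Type) [CommRing A] (I : Type 1)

/-- the module `A[1/2]^(I) × A/2`. -/
abbrev NN : Type 1 := (I →₀ Localization.Away (2 : A)) × (A ⧸ Ideal.span {(2 : A)})

variable {A I}

theorem injective_of_isBC (hA : ∀ a : A, 2 * a = 0 → a = 0) {B : Type} [CommRing B] [Nontrivial B]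
    (φ : A →+* B) (hφ : φ.Flat) {N' : Type*} [AddCommGroup N'] [Module B N'] (ψ : NN A I →+ N')
    (h : IsBC φ ψ) : Function.Injective (fun i : I => ψ (Finsupp.single i 1, 0)) := by
  intro i j hij
  by_contra hne
  let _ : Algebra A B := φ.toAlgebra
  have hflat : Module.Flat A B := hφ
  let g : NN A I →+ B ⊗[A] Localization.Away (2 : A) :=
    { toFun := fun n => (1 : B) ⊗ₜ[A] (n.1 i)
      map_zero' := by simp
      map_add' := fun a b => by simp [TensorProduct.tmul_add] }
  obtain ⟨g', hg', -⟩ := IsBC.existsUnique_lift h g (fun a m => by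
    change (1 : B) ⊗ₜ[A] ((a • m).1 i) = φ a • ((1 : B) ⊗ₜ[A] (m.1 i))
    rw [TensorProduct.smul_tmul']
    change (1 : B) ⊗ₜ[A] (a • (m.1 i)) = (algebraMap A B a * 1) ⊗ₜ[A] (m.1 i)
    rw [TensorProduct.tmul_smul, mul_one, TensorProduct.smul_tmul', Algebra.smul_def, mul_one])
  have h1 := hg' (Finsupp.single i 1, 0)
  have h2 := hg' (Finsupp.single j 1, 0)
  have h3 : g (Finsupp.single i 1, 0) = g (Finsupp.single j 1, 0) := by
    rw [← h1, ← h2]
    exact congrArg g' hij
  have h4 : (1 : B) ⊗ₜ[A] (1 : Localization.Away (2 : A)) = 0 := by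
    have e1 : g (Finsupp.single i 1, 0) = (1 : B) ⊗ₜ[A] (1 : Localization.Away (2 : A)) := by
      change (1 : B) ⊗ₜ[A] ((Finsupp.single i 1 : I →₀ Localization.Away (2 : A)) i) = _
      rw [Finsupp.single_eq_same]
    have e2 : g (Finsupp.single j 1, 0) = 0 := by
      change (1 : B) ⊗ₜ[A] ((Finsupp.single j 1 : I →₀ Localization.Away (2 : A)) i) = _
      rw [Finsupp.single_eq_of_ne (by tauto), TensorProduct.tmul_zero]
    rw [← e1, h3, e2]
  have hinj : Function.Injective (Algebra.linearMap A (Localization.Away (2 : A))) := by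
    refine IsLocalization.injective (M := Submonoid.powers (2 : A)) _ ?_
    refine Submonoid.powers_le.2 (mem_nonZeroDivisors_iff_right.2 fun x hx => hA x ?_)
    rw [mul_comm]
    exact hx
  have h5 := Module.Flat.lTensor_preserves_injective_linearMap (M := B) _ hinj
  have h6 : (1 : B) ⊗ₜ[A] (1 : A) = 0 := by
    apply h5
    rw [map_zero, LinearMap.lTensor_tmul]
    exact (congrArg _ (map_one (algebraMap A (Localization.Away (2 : A))))).trans h4
  have h7 := congrArg (TensorProduct.rid A B) h6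
  rw [TensorProduct.rid_tmul, map_zero, one_smul] at h7
  exact one_ne_zero h7

/-- the base change to a ring where `4 = 0`. -/
theorem exists_equiv {B : Type} [CommRing B]
    (φ : A →+* B) (h4 : (4 : B) = 0) {N' : Type*} [AddCommGroup N'] [Module B N']
    (ψ : NN A I →+ N') (h : IsBC φ ψ) :
    Nonempty (N' ≃ₗ[B] (B ⧸ Ideal.span {(2 : B)})) := by
  have hle : Ideal.span {(2 : A)} ≤ (Ideal.span {(2 : B)}).comap φ := by
    rw [Ideal.span_singleton_le_iff_mem, Ideal.mem_comap, map_ofNat]
    exact Ideal.subset_span rfl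
  let q : A ⧸ Ideal.span {(2 : A)} →+* B ⧸ Ideal.span {(2 : B)} := Ideal.quotientMap _ φ hle
  let g : NN A I →+ B ⧸ Ideal.span {(2 : B)} := q.toAddMonoidHom.comp (AddMonoidHom.snd _ _)
  obtain ⟨g', hg', -⟩ := IsBC.existsUnique_lift h g (fun a m => by
    change q (a • m.2) = φ a • q m.2
    rw [Algebra.smul_def, map_mul]
    rfl)
  let γ : N' := ψ (0, 1)
  have hγ2 : (2 : B) • γ = 0 := by
    have e1 := h.choose (2 : A) ((0, 1) : NN A I)
    rw [map_ofNat] at e1
    rw [← e1]
    have e2 : (2 : A) • ((0, 1) : NN A I) = 0 := by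
      refine Prod.ext (smul_zero _) ?_
      change (2 : A) • (1 : A ⧸ Ideal.span {(2 : A)}) = 0
      rw [Algebra.smul_def, mul_one]
      exact Ideal.Quotient.eq_zero_iff_mem.2 (Ideal.subset_span rfl)
    rw [e2, map_zero]
  have h1 : ∀ l : I →₀ Localization.Away (2 : A), ψ (l, 0) = 0 := by
    intro l
    obtain ⟨l', hl'⟩ : ∃ l' : I →₀ Localization.Away (2 : A), (4 : A) • l' = l := by
      let w : Localization.Away (2 : A) := IsLocalization.Away.invSelf (2 : A)
      refine ⟨l.mapRange (fun x => w * w * x) (mul_zero _), ?_⟩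
      ext i
      rw [Finsupp.smul_apply, Finsupp.mapRange_apply, Algebra.smul_def, map_ofNat]
      have hw : (2 : Localization.Away (2 : A)) * w = 1 := by
        have := IsLocalization.Away.mul_invSelf (S := Localization.Away (2 : A)) (2 : A)
        rwa [map_ofNat] at this
      have e : (4 : Localization.Away (2 : A)) * (w * w * l i) = (2 * w) * (2 * w) * l i := by ring
      rw [e, hw, one_mul, one_mul]
    have e1 := h.choose (4 : A) ((l', 0) : NN A I)
    rw [map_ofNat, h4, zero_smul] at e1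
    have e2 : (4 : A) • ((l', 0) : NN A I) = (l, 0) := Prod.ext hl' (smul_zero _)
    rw [← e2, e1]
  have h3 : ∀ y : N', ∃ b : B, y = b • γ := by
    intro y
    have hsp := K644.Pres.IsBC.span_eq_top h (I := NN A I) id (by rw [Set.range_id, Submodule.span_univ])
    have hy : y ∈ Submodule.span B (Set.range fun i : NN A I => ψ (id i)) := by rw [hsp]; trivial
    have hle : Submodule.span B (Set.range fun i : NN A I => ψ (id i)) ≤ Submodule.span B {γ} := by
      rw [Submodule.span_le]
      rintro _ ⟨n, rfl⟩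
      obtain ⟨a, ha⟩ := Ideal.Quotient.mk_surjective n.2
      have e3 : (n : NN A I) = (n.1, 0) + a • ((0, 1) : NN A I) := by
        refine Prod.ext ?_ ?_
        · change n.1 = n.1 + a • (0 : I →₀ Localization.Away (2 : A))
          rw [smul_zero, add_zero]
        · change n.2 = 0 + a • (1 : A ⧸ Ideal.span {(2 : A)})
          rw [zero_add, Algebra.smul_def, mul_one, ← ha]
          rfl
      change ψ n ∈ _
      rw [e3, map_add, h1, zero_add, h.choose]
      exact Submodule.smul_mem _ _ (Submodule.mem_span_singleton_self γ)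
    obtain ⟨b, hb⟩ := Submodule.mem_span_singleton.1 (hle hy)
    exact ⟨b, hb.symm⟩
  have hgγ : ∀ b : B, g' (b • γ) = Ideal.Quotient.mk _ b := by
    intro b
    rw [map_smul, hg']
    change b • q 1 = _
    rw [map_one, Algebra.smul_def, mul_one]
    rfl
  refine ⟨LinearEquiv.ofBijective g' ⟨?_, ?_⟩⟩
  · rw [injective_iff_map_eq_zero]
    intro y hy
    obtain ⟨b, rfl⟩ := h3 y
    rw [hgγ, Ideal.Quotient.eq_zero_iff_mem, Ideal.mem_span_singleton'] at hy
    obtain ⟨c, rfl⟩ := hy
    rw [mul_smul, hγ2, smul_zero]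
  · intro x
    obtain ⟨b, rfl⟩ := Ideal.Quotient.mk_surjective x
    exact ⟨b • γ, hgγ b⟩

end alg

section site

variable {D : Type d} [Category.{v} D] {J : GrothendieckTopology D} {T : D ⥤ Scheme.{u}}
  {R : Sheaf J RingCat.{u + 1}}
  [HasSheafify J AddCommGrpCat.{u + 1}]
  [J.WEqualsLocallyBijective AddCommGrpCat.{u + 1}]
  [HasPullbacks D] [PreservesLimitsOfShape WalkingCospan T] [QCSite J T]
  [Str T R.obj]

/-- modules over the functions on an affine terminal object give modules on the site. -/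
theorem exists_module {t : D} (ht : IsTerminal t) (hA : IsAffine (T.obj t)) (N : Type (u + 1))
    [AddCommGroup N] [Module Γ(T.obj t, ⊤) N] :
    ∃ (G : SheafOfModules.{u + 1} R) (_ : IsQC T G.val), Nonempty (sec G t ≃ₗ[Γ(T.obj t, ⊤)] N) := by
  let A := Γ(T.obj t, ⊤)
  let lc : (N →₀ A) →ₗ[A] N := Finsupp.linearCombination A (id : N → N)
  let b : (N →₀ A) ≃ₗ[A] sec (SheafOfModules.free (R := R) N) t :=
    LinearEquiv.ofBijective _ (bijective_free T R N t hA)
  let K := LinearMap.ker lc
  let s : K → (SheafOfModules.free (R := R) N).sections := fun r => secOf ht (b r.1)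
  let φ : SheafOfModules.free (R := R) K ⟶ SheafOfModules.free N :=
    (SheafOfModules.free (R := R) N).freeHomEquiv.symm s
  have hK := isQC_free (R := R) T K
  have hN := isQC_free (R := R) T N
  have hex := exact_cokernel (T := T) hK hN φ (cokernel.π φ) (cokernel.condition φ)
    (cokernelIsCokernel φ) t hA
  refine ⟨cokernel φ, isQC_cokernel hK hN φ (cokernel.π φ) (cokernel.condition φ)
    (cokernelIsCokernel φ), ?_⟩
  have hr : LinearMap.range (smap T φ t) = K.map b.toLinearMap := by
    rw [range_π (T := T) s t hA]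
    have e : (fun i => secAt (s i) t) = fun i : K => b i.1 := funext fun i => secAt_secOf_self ht _
    rw [e]
    apply le_antisymm
    · rw [Submodule.span_le]
      rintro _ ⟨i, rfl⟩
      exact ⟨i.1, i.2, rfl⟩
    · rintro _ ⟨x, hx, rfl⟩
      exact Submodule.subset_span ⟨⟨x, hx⟩, rfl⟩
  have hker : LinearMap.ker (smap T (cokernel.π φ) t) = K.map b.toLinearMap := by
    rw [← hr]
    exact LinearMap.exact_iff.1 hex.1
  have hlc : Function.Surjective lc := fun n => ⟨Finsupp.single n 1, by
    change Finsupp.linearCombination A (id : N → N) (Finsupp.single n 1) = n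
    rw [Finsupp.linearCombination_single, one_smul]; rfl⟩
  have hmap : LinearMap.ker (lc.comp b.symm.toLinearMap) = K.map b.toLinearMap := by
    rw [LinearMap.ker_comp, Submodule.map_equiv_eq_comap_symm]
  let e₁ := (smap T (cokernel.π φ) t).quotKerEquivOfSurjective hex.2
  let e₂ := (lc.comp b.symm.toLinearMap).quotKerEquivOfSurjective
    (hlc.comp b.symm.surjective)
  exact ⟨e₁.symm ≪≫ₗ Submodule.quotEquivOfEq _ _ (hker.trans hmap.symm) ≪≫ₗ e₂⟩

end site

noncomputable section geom

open AlgSp K644.Chart K612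

set_option backward.isDefEq.respectTransparency false

abbrev SZ : Scheme.{0} := Spec (CommRingCat.of ℤ)
abbrev R4 : CommRingCat.{0} := CommRingCat.of (ZMod 4)
abbrev YO : Over SZ := Over.mk (𝟙 SZ)
abbrev XO : Over SZ :=
  Over.mk (Spec.map (CommRingCat.ofHom (Int.castRingHom (ZMod 4))) : Spec R4 ⟶ SZ)
abbrev fO : XO ⟶ YO := Over.homMk XO.hom

section gen
variable {S : Scheme.{u}}

/-- the terminal object of the small etale site of a scheme. -/
def tm (T : Over S) : EtOver ((yon S).obj T) :=
  EtOver.mk (𝟙 ((yon S).obj T)) (repWith_id @Etale T)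

def isTerminalTm (T : Over S) : IsTerminal (tm T) :=
  IsTerminal.ofUniqueHom
    (fun E => EtOver.homMk ((yon S).preimage E.obj.hom) (by
      rw [Functor.map_preimage]; exact Category.comp_id _))
    (fun E m => EtOver.hom_ext _ _ ((yon S).map_injective (by
      have h := EtOver.w m
      change (yon S).map m.hom.left = (yon S).map ((yon S).preimage E.obj.hom)
      rw [Functor.map_preimage, ← h]
      exact (Category.comp_id _).symm)))

/-- the map to the base change of the terminal object. -/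
def kk {T' T : Over S} {f : (yon S).obj T' ⟶ (yon S).obj T} (hf : Representable f)
    (V : EtOver ((yon S).obj T')) : V ⟶ (EtOver.bc hf).obj (tm T) :=
  EtOver.homMk (hf.lift V.obj.hom ((yon S).preimage (V.obj.hom ≫ f)) (by
    rw [Functor.map_preimage]; exact (Category.comp_id _).symm)) (hf.lift_fst _ _ _)

end gen

/-- functions on `Spec ℤ`. -/
abbrev AA : Type := Γ((tm YO).obj.left.left, ⊤)

def eAA : AA ≃+* ℤ := (Scheme.ΓSpecIso (CommRingCat.of ℤ)).commRingCatIsoToRingEquiv

theorem reg (a : AA) (h : 2 * a = 0) : a = 0 := by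
  apply eAA.injective
  have h1 := congrArg eAA h
  rw [map_mul, map_zero, map_ofNat] at h1
  rw [map_zero]
  omega

theorem isAffine_tm : IsAffine ((EtOver.toScheme ((yon SZ).obj YO)).obj (tm YO)) :=
  inferInstanceAs (IsAffine (Spec (CommRingCat.of ℤ)))

/-- the module of the counterexample. -/
theorem exists_G : ∃ (G : ModEt ((yon SZ).obj YO)) (_ : G.IsQuasicoherent),
    Nonempty (sec G (tm YO) ≃ₗ[AA] NN AA Cardinal.{0}) := by
  let _ : Module Γ((EtOver.toScheme ((yon SZ).obj YO)).obj (tm YO), ⊤) (NN AA Cardinal.{0}) :=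
    inferInstanceAs (Module AA (NN AA Cardinal.{0}))
  obtain ⟨G, h1, h2⟩ := exists_module (T := EtOver.toScheme ((yon SZ).obj YO))
    (R := OEtRing ((yon SZ).obj YO)) (isTerminalTm YO) isAffine_tm (NN AA Cardinal.{0})
  exact ⟨G, (K644.QCoh.isQuasicoherent_iff _ G).2 h1, h2⟩

theorem hproj (G : ModEt ((yon SZ).obj YO)) [G.IsQuasicoherent]
    (eG : sec G (tm YO) ≃ₗ[AA] NN AA Cardinal.{0})
    {V : Over SZ} (q : (yon SZ).obj V ⟶ (yon SZ).obj YO) (hrepq : Representable q)
    [(SheafOfModules.pushforward.{1} (bcRingHom hrepq)).IsRightAdjoint]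
    (H : V.left.Modules)
    (c : ZarCompanion V.left H ((resSchModEt V).obj ((pullModEt hrepq).obj G)))
    (W : V.left.Opens) (hq : RepWith @Etale q) (hW : IsAffineOpen W) :
    Module.Projective (V.left.ringCatSheaf.obj.obj (Opposite.op W)) (H.val.obj (Opposite.op W)) := by
  rcases subsingleton_or_nontrivial (V.left.ringCatSheaf.obj.obj (Opposite.op W)) with h0 | h0
  · have := Module.subsingleton (V.left.ringCatSheaf.obj.obj (Opposite.op W)) (H.val.obj (Opposite.op W))
    infer_instance
  · exfalso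
    have he := isEtaleMor_of_repWith q hq
    obtain ⟨e, -⟩ := ProjChart.exists_equiv hrepq he G H c W
    let E1 := ProjChart.openObj he W
    have hE1 : IsAffine E1.obj.left.left := hW
    let g : E1 ⟶ tm YO := (isTerminalTm YO).from E1
    have hBC := isBC_of_isQuasicoherent G g isAffine_tm hE1
    have hfl : (g.hom.left.left.appTop.hom).Flat :=
      FlatMaps.appTop (T := EtOver.toScheme ((yon SZ).obj YO)) g hE1 isAffine_tm
    have hnt : Nontrivial Γ(E1.obj.left.left, ⊤) := (ProjChart.topEquiv he W).nontrivial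
    let ψ : NN AA Cardinal.{0} →+ G.val.presheaf.obj (op E1) :=
      (G.val.presheaf.map g.op).hom.comp eG.symm.toAddEquiv.toAddMonoidHom
    have hψ : IsBC g.hom.left.left.appTop.hom ψ :=
      IsBC.of_equiv hBC eG (LinearEquiv.refl _ _) ψ (fun m => by
        change (G.val.presheaf.map g.op).hom (eG.symm (eG m)) = (G.val.presheaf.map g.op).hom m
        rw [LinearEquiv.symm_apply_apply])
    have hinj := injective_of_isBC reg _ hfl ψ hψ
    have hinj' : Function.Injective (fun i : Cardinal.{0} => e (ψ (Finsupp.single i 1, 0))) :=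
      e.injective.comp hinj
    exact not_small_cardinal.{0} (small_of_injective hinj')

/-! ### the inverse image on `Spec (ℤ/4)` -/

/-- the ideal `(2)` of `ℤ/4`. -/
abbrev I2 : Ideal R4 := Ideal.span {(2 : R4)}

abbrev M2 : ModuleCat.{0} R4 := ModuleCat.of R4 (R4 ⧸ I2)

abbrev H2 : (Spec R4).Modules := tilde M2

/-- the chart of an open. -/
abbrev VW (W : (Spec R4).Opens) : EtOver ((yon SZ).obj XO) :=
  (EtOver.ofScheme XO).obj (etaleOfOpen (Spec R4) W)

theorem opens_eq (W : (Spec R4).Opens) : W = ⊤ ∨ W = ⊥ := by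
  have hP : ∀ P Q : PrimeSpectrum (ZMod 4), P = Q := by
    have h1 : ∀ P : PrimeSpectrum (ZMod 4), ∀ x : ZMod 4, x ∈ P.asIdeal ↔ (x = 0 ∨ x = 2) := by
      intro P x
      have h2 : (2 : ZMod 4) ∈ P.asIdeal := by
        have : (2 : ZMod 4) * 2 ∈ P.asIdeal := by
          rw [show (2 : ZMod 4) * 2 = 0 by decide]; exact P.asIdeal.zero_mem
        rcases P.2.mem_or_mem this with h | h <;> exact h
      constructor
      · intro hx
        by_contra hne
        have h4 : ∀ x : ZMod 4, ¬ (x = 0 ∨ x = 2) → x = 1 ∨ x = 3 := by decide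
        have := h4 x hne
        apply P.2.ne_top
        rw [Ideal.eq_top_iff_one]
        rcases this with rfl | rfl
        · exact hx
        · have := P.asIdeal.mul_mem_left 3 hx
          rwa [show (3 : ZMod 4) * 3 = 1 by decide] at this
      · rintro (rfl | rfl)
        · exact P.asIdeal.zero_mem
        · exact h2
    intro P Q
    ext x
    rw [h1, h1]
  rcases Set.eq_empty_or_nonempty (W : Set (Spec R4)) with h | ⟨x, hx⟩
  · right
    exact SetLike.coe_injective h
  · left
    ext y
    constructor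
    · intro _; trivial
    · intro _
      have : y = x := hP y x
      rw [this]; exact hx

theorem isAffine_tmX : IsAffine (tm XO).obj.left.left :=
  inferInstanceAs (IsAffine (Spec R4))

section comp

variable (G : ModEt ((yon SZ).obj YO)) [G.IsQuasicoherent]
  (eG : sec G (tm YO) ≃ₗ[AA] NN AA Cardinal.{0})
  {f : (yon SZ).obj XO ⟶ (yon SZ).obj YO} (hf : Representable f)
  [(SheafOfModules.pushforward.{1} (bcRingHom hf)).IsRightAdjoint]
  {p : (yon SZ).obj XO ⟶ (yon SZ).obj XO} (hp : Representable p)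
  [(SheafOfModules.pushforward.{1} (bcRingHom hp)).IsRightAdjoint]

/-- the inverse image. -/
abbrev PM : ModEt ((yon SZ).obj XO) := (pullModEt hp).obj ((pullModEt hf).obj G)

include eG in
theorem isBC_pull (V : EtOver ((yon SZ).obj XO)) (hV : IsAffine V.obj.left.left) :
    ∃ (φ : AA →+* Γ(V.obj.left.left, ⊤)) (ψ : NN AA Cardinal.{0} →+ sec (PM G hf hp) V),
      IsBC φ ψ := by
  have hq : ((pullModEt hf).obj G).IsQuasicoherent :=
    PullQc.isQuasicoherent_pullModEt hf (PullQc.hasAtlas_of_isAlgSpace (IsAlgSpace.yon_obj YO)) G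
  have h1 := ModPush.isBC_un_modEt hf G (kk hf (tm XO)) isAffine_tm isAffine_tmX
  have h2 := ModPush.isBC_un_modEt hp ((pullModEt hf).obj G) (kk hp V) isAffine_tmX hV
  let φ : AA →+* Γ(V.obj.left.left, ⊤) :=
    ((ModPush.schHom hp).θ (kk hp V)).comp ((ModPush.schHom hf).θ (kk hf (tm XO)))
  let Ψ : sec G (tm YO) →+ sec (PM G hf hp) V :=
    (PullSec.sm (PullTerm.un (bcRingHom hp) ((pullModEt hf).obj G)) (kk hp V)).comp
      (PullSec.sm (PullTerm.un (bcRingHom hf) G) (kk hf (tm XO)))
  have h3 : IsBC φ Ψ := IsBC.comp h1 h2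
  refine ⟨φ, Ψ.comp eG.symm.toAddEquiv.toAddMonoidHom, ?_⟩
  refine IsBC.of_equiv h3 eG (LinearEquiv.refl Γ(V.obj.left.left, ⊤) _) _ (fun m => ?_)
  change Ψ (eG.symm (eG m)) = Ψ m
  rw [LinearEquiv.symm_apply_apply]

/-- functions on the chart `⊤`. -/
abbrev BB : Type := Γ((VW ⊤).obj.left.left, ⊤)

def ρ : BB ≃+* R4 :=
  (Scheme.Opens.topIso (X := Spec R4) ⊤).commRingCatIsoToRingEquiv.trans
    (Scheme.ΓSpecIso R4).commRingCatIsoToRingEquiv

theorem ρ_topIso (a : Γ(Spec R4, ⊤)) :
    ρ ((Scheme.Opens.topIso (X := Spec R4) ⊤).inv a) = (Scheme.ΓSpecIso R4).hom a := by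
  change (Scheme.ΓSpecIso R4).hom ((Scheme.Opens.topIso (X := Spec R4) ⊤).hom
    ((Scheme.Opens.topIso (X := Spec R4) ⊤).inv a)) = _
  have := ConcreteCategory.congr_hom (Scheme.Opens.topIso (X := Spec R4) ⊤).inv_hom_id a
  exact congrArg _ this

theorem isAffine_top : IsAffine (VW ⊤).obj.left.left :=
  isAffineOpen_top (Spec R4)

theorem four_eq : (4 : BB) = 0 := by
  apply ρ.injective
  rw [map_ofNat, map_zero]
  exact (by decide : (4 : ZMod 4) = 0)

def qe : (BB ⧸ Ideal.span {(2 : BB)}) ≃+* (R4 ⧸ I2) :=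
  Ideal.quotientEquiv _ _ ρ (by
    rw [Ideal.map_span, Set.image_singleton]
    refine congrArg (fun x : R4 => Ideal.span {x}) ?_
    exact (map_ofNat ρ 2).symm)

include eG in
/-- the sections of the inverse image over the whole chart. -/
theorem exists_top_equiv : ∃ e : sec (PM G hf hp) (VW ⊤) ≃+ (R4 ⧸ I2),
    ∀ (b : BB) (m : sec (PM G hf hp) (VW ⊤)), e (b • m) = ρ b • e m := by
  obtain ⟨φ, ψ, h⟩ := isBC_pull G eG hf hp (VW ⊤) isAffine_top
  obtain ⟨e₁⟩ := exists_equiv φ four_eq ψ h
  refine ⟨e₁.toAddEquiv.trans qe.toAddEquiv, fun b m => ?_⟩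
  change qe (e₁ (b • m)) = ρ b • qe (e₁ m)
  rw [map_smul, Algebra.smul_def, map_mul, Algebra.smul_def]
  rfl

theorem subsingleton_bot (M : ModEt ((yon SZ).obj XO)) : Subsingleton (sec M (VW ⊥)) := by
  have h1 : Subsingleton Γ((VW ⊥).obj.left.left, ⊤) := by
    have h2 : Subsingleton Γ(Spec R4, ⊥) := inferInstance
    exact (Scheme.Opens.topIso (X := Spec R4) ⊥).commRingCatIsoToRingEquiv.toEquiv.subsingleton
  exact Module.subsingleton Γ((VW ⊥).obj.left.left, ⊤) _

/-- global sections of `H2`. -/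
def e2 : (R4 ⧸ I2) ≃+ (H2.val.obj (op ⊤) : Type) :=
  (tilde.isoTop M2).toLinearEquiv.toAddEquiv

theorem e2_smul (a : Γ(Spec R4, ⊤)) (x : R4 ⧸ I2) :
    e2 ((Scheme.ΓSpecIso R4).hom a • x) = a • e2 x := by
  have h1 := (tilde.isoTop M2).toLinearEquiv.map_smul ((Scheme.ΓSpecIso R4).hom a) x
  refine h1.trans ?_
  refine (Scheme.Modules.smul_Spec_def (M := H2) (U := ⊤) _ _).trans ?_
  refine congrArg (fun b : Γ(Spec R4, ⊤) => b • (show Γ(H2, ⊤) from e2 x)) ?_
  have h2 : (Spec R4).presheaf.map (TopologicalSpace.Opens.leTop (⊤ : (Spec R4).Opens)).op =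
      𝟙 _ := (Spec R4).presheaf.map_id _
  rw [h2]
  exact ConcreteCategory.congr_hom (Scheme.ΓSpecIso R4).hom_inv_id a

include eG in
/-- the companion. -/
theorem nonempty_companion : Nonempty (ZarCompanion (Spec R4) H2
    ((resSchModEt XO).obj (PM G hf hp))) := by
  classical
  obtain ⟨e, he⟩ := exists_top_equiv G eG hf hp
  let e' : sec (PM G hf hp) (VW ⊤) ≃+ ULift.{1} (H2.val.obj (op ⊤) : Type) :=
    e.trans (e2.trans AddEquiv.ulift.symm)
  have hs0 : Subsingleton (H2.val.obj (op ⊥)) := by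
    have h2 : Subsingleton Γ(Spec R4, ⊥) := inferInstance
    exact Module.subsingleton Γ(Spec R4, ⊥) _
  have key : ∀ W : (Spec R4).Opens, ∃ i : sec (PM G hf hp) (VW W) ≃+ ULift.{1} (H2.val.obj (op W) : Type),
      ∀ hW : W = ⊤, i = hW ▸ e' := by
    intro W
    by_cases hW : W = ⊤
    · subst hW
      exact ⟨_, fun _ => rfl⟩
    · obtain rfl : W = ⊥ := (opens_eq W).resolve_left hW
      have := subsingleton_bot (PM G hf hp)
      exact ⟨{ toFun := fun _ => 0, invFun := fun _ => 0, left_inv := fun _ => Subsingleton.elim _ _,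
               right_inv := fun _ => Subsingleton.elim _ _, map_add' := fun _ _ => (add_zero _).symm },
        fun h => absurd h hW⟩
  choose i hi using key
  have hi' : i ⊤ = e' := hi ⊤ rfl
  refine ⟨{ iso := i, map_smul := fun W a m => ?_, map_res := fun {W W'} h m => ?_ }⟩
  · rcases opens_eq W with rfl | rfl
    · rw [hi']
      let b : BB := (Scheme.Opens.topIso (X := Spec R4) ⊤).inv a
      have h1 : e (b • (show sec (PM G hf hp) (VW ⊤) from m)) = ρ b • e m := he b m
      have h2 : ρ b = (Scheme.ΓSpecIso R4).hom a := ρ_topIso a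
      rw [h2] at h1
      have h3 := congrArg e2 h1
      rw [e2_smul] at h3
      exact congrArg ULift.up h3
    · exact Subsingleton.elim _ _
  · rcases opens_eq W' with rfl | rfl
    · obtain rfl : W = ⊤ := top_le_iff.1 h
      rw [hi']
      have h1 : etaleOfLE h = 𝟙 (etaleOfOpen (Spec R4) ⊤) := by
        refine MorphismProperty.Over.Hom.ext ?_
        exact Scheme.homOfLE_rfl _ _
      let M' := (resSchModEt XO).obj (PM G hf hp)
      have h2 : M'.val.presheaf.map (etaleOfLE h).op m = m := by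
        rw [h1, op_id, M'.val.presheaf.map_id]
        rfl
      have h3 : ∀ x : H2.val.presheaf.obj (op ⊤), H2.val.presheaf.map (homOfLE h).op x = x := by
        intro x
        have h4 : (homOfLE h).op = 𝟙 (op ⊤) := rfl
        rw [h4, H2.val.presheaf.map_id]
        rfl
      exact (congrArg e' h2).trans (congrArg ULift.up (h3 (e' m).down).symm)
    · exact Subsingleton.elim _ _

end comp

theorem not_projective_quot : ¬ Module.Projective (ZMod 4) (ZMod 4 ⧸ Ideal.span {(2 : ZMod 4)}) := by
  intro hP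
  obtain ⟨s, hs⟩ := Module.projective_lifting_property (Submodule.mkQ (Ideal.span {(2 : ZMod 4)}))
    (LinearMap.id (R := ZMod 4) (M := ZMod 4 ⧸ Ideal.span {(2 : ZMod 4)})) (Submodule.mkQ_surjective _)
  have h2 : (2 : ZMod 4) • (1 : ZMod 4 ⧸ Ideal.span {(2 : ZMod 4)}) = 0 := by
    rw [Algebra.smul_def, mul_one]
    exact Ideal.Quotient.eq_zero_iff_mem.2 (Ideal.subset_span rfl)
  have h3 : (2 : ZMod 4) * s 1 = 0 := by
    have := congrArg s h2
    rw [map_smul, map_zero] at this
    exact this
  have h4 : ∀ x : ZMod 4, 2 * x = 0 → ∃ y, y * 2 = x := by decide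
  have h5 : s 1 ∈ Ideal.span {(2 : ZMod 4)} := Ideal.mem_span_singleton'.2 (h4 _ h3)
  have h6 : Submodule.mkQ (Ideal.span {(2 : ZMod 4)}) (s 1) = 1 := LinearMap.congr_fun hs 1
  have h7 : (1 : ZMod 4 ⧸ Ideal.span {(2 : ZMod 4)}) = 0 := by
    rw [← h6]
    exact (Submodule.Quotient.mk_eq_zero _).2 h5
  have h8 : (1 : ZMod 4) ∈ Ideal.span {(2 : ZMod 4)} :=
    Ideal.Quotient.eq_zero_iff_mem.1 h7
  have h9 : ¬ ∃ y : ZMod 4, y * 2 = 1 := by decide
  exact h9 (Ideal.mem_span_singleton'.1 h8)

theorem not_projective : ¬ Module.Projective ((Spec R4).ringCatSheaf.obj.obj (op ⊤)) (H2.val.obj (op ⊤)) := by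
  intro hP
  apply not_projective_quot
  let σ : ((Spec R4).ringCatSheaf.obj.obj (op ⊤)) ≃+* ZMod 4 :=
    (Scheme.ΓSpecIso R4).commRingCatIsoToRingEquiv
  have := RingHomInvPair.of_ringEquiv σ
  have := RingHomInvPair.of_ringEquiv_symm σ
  let τ : (H2.val.obj (op ⊤) : Type) ≃ₛₗ[(σ : ((Spec R4).ringCatSheaf.obj.obj (op ⊤)) →+* ZMod 4)]
      (ZMod 4 ⧸ Ideal.span {(2 : ZMod 4)}) :=
    { e2.symm with
      map_smul' := fun a m => by
        change e2.symm (a • m) = (Scheme.ΓSpecIso R4).hom a • e2.symm m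
        rw [AddEquiv.symm_apply_eq, e2_smul, AddEquiv.apply_symm_apply] }
  exact Module.Projective.of_equiv τ

/-- **The frozen statement S10255 is false** (universe `0`). -/
theorem refuted : ¬ (∀ {S : Scheme.{0}} {X Y : AlgSp.Space S} (f : X ⟶ Y)
    (hrep : AlgSp.Representable f.hom)
    [(SheafOfModules.pushforward.{0 + 1} (AlgSp.bcRingHom hrep)).IsRightAdjoint]
    (G : AlgSp.ModEt Y.obj) (_hG : G.IsQuasicoherent)
    (_hproj : ∀ {V : Over S} (q : (AlgSp.yon S).obj V ⟶ Y.obj) (hrepq : AlgSp.Representable q)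
      [(SheafOfModules.pushforward.{0 + 1} (AlgSp.bcRingHom hrepq)).IsRightAdjoint]
      (H : V.left.Modules) [Coh.IsQCoh H]
      (_c : AlgSp.ZarCompanion V.left H ((AlgSp.resSchModEt V).obj ((AlgSp.pullModEt hrepq).obj G)))
      (W : V.left.Opens), AlgSp.RepWith @Etale q → IsAffineOpen W →
        Module.Projective (V.left.ringCatSheaf.obj.obj (Opposite.op W)) (H.val.obj (Opposite.op W)))
    {U : Over S} (p : (AlgSp.yon S).obj U ⟶ X.obj) (hrepp : AlgSp.Representable p)
    (_hp : AlgSp.RepWith @Etale p)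
    [(SheafOfModules.pushforward.{0 + 1} (AlgSp.bcRingHom hrepp)).IsRightAdjoint]
    (H' : U.left.Modules) [Coh.IsQCoh H']
    (_c' : AlgSp.ZarCompanion U.left H'
      ((AlgSp.resSchModEt U).obj ((AlgSp.pullModEt hrepp).obj ((AlgSp.pullModEt hrep).obj G))))
    (W : U.left.Opens) (_hW : IsAffineOpen W),
    Module.Projective (U.left.ringCatSheaf.obj.obj (Opposite.op W)) (H'.val.obj (Opposite.op W))) := by
  intro h
  obtain ⟨G, hG, ⟨eG⟩⟩ := exists_G
  have hrep : Representable ((ofScheme SZ).map fO).hom := representable_yon_map fO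
  have hrepp : Representable (𝟙 ((yon SZ).obj XO)) := (repWith_id @Etale XO).1
  obtain ⟨c⟩ := nonempty_companion G eG hrep hrepp
  have hH : Coh.IsQCoh H2 := inferInstanceAs (tilde M2).IsQuasicoherent
  have := hH
  have hA : IsAffineOpen (⊤ : (Spec R4).Opens) := isAffineOpen_top (Spec R4)
  exact not_projective (h (X := (ofScheme SZ).obj XO) (Y := (ofScheme SZ).obj YO)
    ((ofScheme SZ).map fO) hrep G hG
    (fun {V} q hrepq _ H _ c W hq hW => hproj G eG q hrepq H c W hq hW)
    (U := XO) (𝟙 _) hrepp (repWith_id @Etale XO) H2 c ⊤ hA)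

end geom

end Groth.Agent.Refuted.S10255
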