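import Groth.Prelude.Def_Red2
import Groth.Prelude.Def_Par
import Mathlib.LinearAlgebra.RootSystem.Base
import Mathlib.LinearAlgebra.Quotient.Defs
import Groth.Agent.Sga3B.Par.CanDef
import Groth.Agent.Par.K547.DynTools
import Groth.Agent.S3950

/-!
# S12115 is false as written: Lean refutation

The base `S` is not assumed connected, while the set `Δ(P)` of S12115 is defined by a condition over
all of `S`.  Counterexample (helper546, confirmed by helper458): `S = S₁ ⊔ S₂`, `G` the pinned group of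
rank one (`SL₂`), `P` = Borel subgroup over `S₁` and `P = G` over `S₂`, `L` = maximal torus over `S₁`
and `L = G` over `S₂`.  Then `Δ(P) = ∅`, `N = 0`, and the statement would say that `L` centralizes `T`.

Here `S = Spec (ℤ × ℤ)`, `G` comes from the existence theorem (S3950) for the root datum `2, -2 ∈ ℤ`,
`P = P_G(λ)` and `L = Z_G(λ)` for the cocharacter `λ` which is the coroot over `S₁` and trivial over
`S₂` (`lam D e y`, `e` the idempotent of `S₁`, `y` the coroot).
-/

set_option autoImplicit false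
universe u

open CategoryTheory MonoidalCategory CartesianMonoidalCategory MonObj GrpObj AlgebraicGeometry
open scoped LaurentPolynomial Polynomial

namespace Groth.Agent.Refuted.S12115

open Groth.Agent.Sga3B Groth.Agent.Sga3B.DSPts Groth.Agent.Sga3B.GaPts Groth.Agent.Sga3B.Parab
  Groth.Agent.Sga3B.Par

section Twist

variable {S : Scheme.{u}} (e : Γ(S, ⊤))

/-- the restriction of the function `e` of the base to `X` -/
noncomputable def res (X : Over S) : Γ(X.left, ⊤) := X.hom.appTop e

lemma res_comp {X Y : Over S} (f : Y ⟶ X) : f.left.appTop (res e X) = res e Y := by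
  rw [res, res, ← Over.w f, Scheme.Hom.comp_appTop]
  rfl

variable {e}

lemma res_mul_self (he : e * e = e) (X : Over S) : res e X * res e X = res e X := by
  rw [res, ← map_mul, he]

variable (e)

/-- For an idempotent `e` the character `m ↦ e χ(m) + (1 - e)`. -/
noncomputable def tw (he : e * e = e) {M : Type} [AddCommGroup M] (X : Over S)
    (χ : Multiplicative M →* Γ(X.left, ⊤)) : Multiplicative M →* Γ(X.left, ⊤) where
  toFun m := res e X * χ m + (1 - res e X)
  map_one' := by rw [map_one]; ring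
  map_mul' m n := by
    rw [map_mul]
    have h := res_mul_self he X
    linear_combination (-(χ m * χ n) + χ m + χ n - 1) * h

variable {e}

lemma tw_apply (he : e * e = e) {M : Type} [AddCommGroup M] (X : Over S)
    (χ : Multiplicative M →* Γ(X.left, ⊤)) (m : Multiplicative M) :
    tw e he X χ m = res e X * χ m + (1 - res e X) := rfl

lemma tw_mul (he : e * e = e) {M : Type} [AddCommGroup M] (X : Over S)
    (χ χ' : Multiplicative M →* Γ(X.left, ⊤)) : tw e he X (χ * χ') = tw e he X χ * tw e he X χ' := by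
  refine MonoidHom.ext fun m => ?_
  rw [MonoidHom.mul_apply, tw_apply, tw_apply, tw_apply, MonoidHom.mul_apply]
  have h := res_mul_self he X
  linear_combination (-(χ m * χ' m) + χ m + χ' m - 1) * h

/-- The homomorphism `𝔾_m ⟶ D_S(M)` which is `y` over the part of `S` where `e = 1` and trivial over the
part where `e = 0`. -/
noncomputable def lam0 (he : e * e = e) {M : Type} [AddCommGroup M] (y : M →+ ℤ) :
    Red.Gm S ⟶ Red.DS S M :=
  dsEquiv (Red.Gm S) M (tw e he _ ((dsChar (𝟙 (Red.Gm S))).comp (AddMonoidHom.toMultiplicative y)))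

lemma dsChar_lam0 (he : e * e = e) {M : Type} [AddCommGroup M] (y : M →+ ℤ) {X : Over S}
    (t : X ⟶ Red.Gm S) : dsChar (t ≫ lam0 he y) =
      tw e he X ((dsChar t).comp (AddMonoidHom.toMultiplicative y)) := by
  refine MonoidHom.ext fun m => ?_
  rw [dsChar_comp, lam0, dsChar_dsEquiv]
  change t.left.appTop (res e _ * (dsChar (𝟙 (Red.Gm S))) (AddMonoidHom.toMultiplicative y m) +
    (1 - res e _)) = res e X * (dsChar t) (AddMonoidHom.toMultiplicative y m) + (1 - res e X)
  have h1 : t.left.appTop ((dsChar (𝟙 (Red.Gm S))) (AddMonoidHom.toMultiplicative y m)) =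
      dsChar t (AddMonoidHom.toMultiplicative y m) := by
    have := congrArg (fun f => f (AddMonoidHom.toMultiplicative y m))
      (dsChar_comp t (𝟙 (Red.Gm S)))
    rw [Category.comp_id] at this
    exact this.symm
  rw [map_add, map_mul, map_sub, map_one, res_comp, h1]

instance isMonHom_lam0 (he : e * e = e) {M : Type} [AddCommGroup M] (y : M →+ ℤ) :
    IsMonHom (lam0 he y) := by
  apply Pts.isMonHom_of_points
  intro X x x'
  apply (dsEquiv X M).symm.injective
  change dsChar _ = dsChar _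
  rw [dsChar_lam0, dsChar_mul, dsChar_mul, dsChar_lam0, dsChar_lam0, ← tw_mul]
  rfl

end Twist

section Group

variable {S : Scheme.{u}} {G : Over S} [GrpObj G] (D : Red.SplitRed G) {e : Γ(S, ⊤)} (he : e * e = e)
  (y : Module.Dual ℤ D.M)

lemma ds_comm {M : Type} [AddCommGroup M] {X : Over S} (x x' : X ⟶ Red.DS S M) :
    x * x' = x' * x := by
  apply (dsEquiv X M).symm.injective
  rw [map_mul, map_mul, mul_comm]

lemma torus_comm {X : Over S} (x x' : X ⟶ D.T) : x * x' = x' * x := by
  have h1 : IsMonHom D.split.hom.hom.hom := D.split.hom.hom.isMonHom_hom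
  have h2 : ∀ t : X ⟶ D.T, (t ≫ D.split.hom.hom.hom) ≫ D.split.inv.hom.hom = t := fun t => by
    rw [Category.assoc, split_hom_inv]
    exact Category.comp_id _
  rw [← h2 (x * x'), ← h2 (x' * x)]
  congr 1
  exact (MonObj.mul_comp x x' D.split.hom.hom.hom).trans ((ds_comm _ _).trans
    (MonObj.mul_comp x' x D.split.hom.hom.hom).symm)

/-- The twisted cocharacter with values in the torus. -/
noncomputable def lamT : Red.Gm S ⟶ D.T := lam0 he y.toAddMonoidHom ≫ D.split.inv.hom.hom

/-- The twisted cocharacter: `y` over the part of `S` where `e = 1`, trivial where `e = 0`. -/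
noncomputable def lam : Red.Gm S ⟶ G := lamT D he y ≫ D.i

instance isMonHom_lamT : IsMonHom (lamT D he y) := by
  have h2 : IsMonHom D.split.inv.hom.hom := D.split.inv.hom.isMonHom_hom
  unfold lamT
  infer_instance

instance isMonHom_lam : IsMonHom (lam D he y) := by
  unfold lam
  infer_instance

lemma lamT_split : lamT D he y ≫ D.split.hom.hom.hom = lam0 he y.toAddMonoidHom := by
  rw [lamT, Category.assoc, split_inv_hom]
  exact Category.comp_id _

/-- The torus lies in `Z_G(λ)`. -/
lemma ptZ_torus : PtZ (lam D he y) D.i := by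
  rw [DynExist998.ptZ_iff_centralizes]
  intro X' x h
  rw [lam, ← Category.assoc, ← MonObj.mul_comp, ← MonObj.mul_comp, torus_comm]

/-- Over the part of the base where `e = 0` the subgroup `Z_G(λ)` is all of `G`. -/
lemma ptZ_of_res_eq_zero {X : Over S} (hX : res e X = 0) (g : X ⟶ G) : PtZ (lam D he y) g := by
  rw [DynExist998.ptZ_iff_centralizes]
  intro X' x h
  have h1 : h ≫ lam0 he y.toAddMonoidHom = 1 := by
    apply (dsEquiv X' D.M).symm.injective
    rw [map_one]
    change dsChar _ = _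
    rw [dsChar_lam0]
    refine MonoidHom.ext fun m => ?_
    rw [tw_apply, ← res_comp e x, hX, map_zero, zero_mul, zero_add, sub_zero]
    rfl
  have h2 : h ≫ lam D he y = 1 := by
    have h3 : IsMonHom D.split.inv.hom.hom := D.split.inv.hom.isMonHom_hom
    rw [lam, lamT, ← Category.assoc, ← Category.assoc, h1, MonObj.one_comp, MonObj.one_comp]
  rw [h2, _root_.mul_one, _root_.one_mul]

section Lim

variable {C : Type u} [CommRing C] {c : Spec (CommRingCat.of C) ⟶ S}

lemma orb_lam (a : D.idx) (x : Γ((aff C c).left, ⊤)) :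
    orb (lam D he y) (gaPt (aff C c) x ≫ D.u a) =
      gaPt (gmo C c) ((res e (gmo C c) * tChar C c (Multiplicative.ofAdd (y (D.P.root a))) +
        (1 - res e (gmo C c))) * (gmPr C c).left.appTop x) ≫ D.u a := by
  have h1 := rel_pt D a (tPt C c ≫ lamT D he y) ((gmPr C c).left.appTop x)
  have h2 : dsChar ((tPt C c ≫ lamT D he y) ≫ D.split.hom.hom.hom)
      (Multiplicative.ofAdd (D.P.root a)) =
      res e (gmo C c) * tChar C c (Multiplicative.ofAdd (y (D.P.root a))) +
        (1 - res e (gmo C c)) := by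
    rw [Category.assoc, lamT_split, dsChar_lam0, tw_apply, tPt, dsChar_dsEquiv]
    rfl
  rw [h2] at h1
  rw [orb, ← h1, ← Category.assoc (gmPr C c), comp_gaPt, lam, Category.assoc]

/-- The root groups of nonnegative weight lie in `P_G(λ)`. -/
lemma ptP_root (a : D.idx) (h : 0 ≤ y (D.P.root a)) : PtP (lam D he y) (D.u a) := by
  intro C _ c x
  obtain ⟨n, hn⟩ := Int.eq_ofNat_of_zero_le h
  rw [← gaPt_gaFn _ x]
  refine ⟨gaPt (lin C c) ((res e (lin C c) * linX C c ^ n + (1 - res e (lin C c))) *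
    (linPr C c).left.appTop (Red.gaFn x)) ≫ D.u a, ?_⟩
  rw [orb_lam, hn, ← Category.assoc, comp_gaPt, map_mul, map_add, map_mul, map_sub, map_one,
    res_comp, toLin_linX_pow]
  congr 3
  rw [← Par.toLin_linPr]
  rfl

/-- Over a nonempty part of the base where `e = 1`, a root group in `P_G(λ)` has nonnegative weight. -/
lemma nonneg_of_ptP [Nontrivial C] (hc : res e (aff C c) = 1) (a : D.idx)
    (h : PtP (lam D he y) (D.u a)) : 0 ≤ y (D.P.root a) := by
  have h1 := h C c (gaPt (aff C c) 1)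
  have h2 : orb (lam D he y) (gaPt (aff C c) 1 ≫ D.u a) =
      orb (coch D y) (gaPt (aff C c) 1 ≫ D.u a) := by
    rw [orb_lam, orb_root, ← res_comp e (gmPr C c), hc, map_one, sub_self, add_zero,
      _root_.one_mul]
  obtain ⟨k, hk⟩ := h1
  exact (limEx_root_iff D y a).1 ⟨k, hk.trans h2⟩

end Lim

end Group

section Datum

/-- The sign of a Boolean. -/
def sgn (b : Bool) : ℤ := if b then 1 else -1

lemma sgn_injective : Function.Injective sgn := by
  intro a b h
  cases a <;> cases b <;> simp_all [sgn]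

/-- The root datum of `SL₂`: roots `2, -2` and coroots `1, -1` in `ℤ`. -/
noncomputable def RD : RootPairing Bool ℤ ℤ ℤ where
  toLinearMap := LinearMap.mul ℤ ℤ
  isPerfPair_toLinearMap := by
    apply LinearMap.IsPerfPair.of_bijective
    constructor
    · intro a b h
      simpa using LinearMap.congr_fun h 1
    · intro g
      refine ⟨g 1, ?_⟩
      ext
      simp
  root := ⟨fun b => 2 * sgn b, fun a b h => sgn_injective (by simpa using h)⟩
  coroot := ⟨sgn, sgn_injective⟩
  root_coroot_two b := by cases b <;> simp [sgn]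
  reflectionPerm _ := Equiv.boolNot
  reflectionPerm_root a b := by cases a <;> cases b <;> simp [sgn]
  reflectionPerm_coroot a b := by cases a <;> cases b <;> simp [sgn]

lemma root_eq (b : Bool) : RD.root b = 2 * sgn b := rfl

lemma coroot_eq (b : Bool) : RD.coroot b = sgn b := rfl

instance : RD.IsReduced where
  eq_or_eq_neg i j _ := by
    rw [root_eq, root_eq]
    cases i <;> cases j <;> simp [sgn]

/-- The base `{2}`. -/
noncomputable def RB : RD.Base where
  support := {true}
  linearIndepOn_root := by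
    rw [Finset.coe_singleton, linearIndepOn_singleton_iff]
    rw [root_eq]; simp [sgn]
  linearIndepOn_coroot := by
    rw [Finset.coe_singleton, linearIndepOn_singleton_iff]
    rw [coroot_eq]; simp [sgn]
  root_mem_or_neg_mem i := by
    cases i
    · right
      apply AddSubmonoid.subset_closure
      exact ⟨true, by simp, by rw [root_eq, root_eq]; simp [sgn]⟩
    · left
      apply AddSubmonoid.subset_closure
      exact ⟨true, by simp, rfl⟩
  coroot_mem_or_neg_mem i := by
    cases i
    · right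
      apply AddSubmonoid.subset_closure
      exact ⟨true, by simp, by rw [coroot_eq, coroot_eq]; simp [sgn]⟩
    · left
      apply AddSubmonoid.subset_closure
      exact ⟨true, by simp, rfl⟩

end Datum

section Main

variable {S : Scheme.{u}} {G : Over S} [GrpObj G]

/-- The value of the coroot `a` on the root `a`. -/
lemma coroot_root (D : Red.SplitRed G) (a : D.idx) : (D.P.coroot a) (D.P.root a) = 2 := by
  have h := D.P.root_coroot_two a
  rw [D.pairing_eq] at h
  exact h

/-- Clause (a) of S12115 fails for every pinned group with exactly one simple root over a base with an idempotent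
which is `1` on a nonempty affine test scheme and `0` on another one. -/
theorem refute (D : Red.Pinning G) (a₀ : D.idx) (hD : ∀ a : D.idx, a ∈ D.base.support ↔ a = a₀)
    {e : Γ(S, ⊤)} (he : e * e = e)
    {C₁ : Type u} [CommRing C₁] [Nontrivial C₁] (c₁ : Spec (CommRingCat.of C₁) ⟶ S)
    (h₁ : res e (aff C₁ c₁) = 1)
    {C₂ : Type u} [CommRing C₂] [Nontrivial C₂] (c₂ : Spec (CommRingCat.of C₂) ⟶ S)
    (h₂ : res e (aff C₂ c₂) = 0)
    (H : ∀ {P L : Over S} [GrpObj P] [GrpObj L] (p : P ⟶ G) (_ : Red.IsParabolic p)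
      (_ : ∃ t : D.T ⟶ P, t ≫ p = D.i)
      (_ : ∀ a : D.idx, D.P.root a ∈ AddSubmonoid.closure (D.P.root '' (D.base.support : Set D.idx)) →
        ∃ v : Red.Ga S ⟶ P, v ≫ p = D.u a)
      (ΔP : Set D.idx)
      (_ : ∀ a : D.idx, a ∈ ΔP ↔ (a ∈ D.base.support ∧
        ∃ b : D.idx, D.P.root b = - D.P.root a ∧ ∃ v : Red.Ga S ⟶ P, v ≫ p = D.u b))
      (N : Submodule ℤ D.M)
      (_ : ∀ m : D.M, m ∈ N ↔ ∃ k : ℤ, k ≠ 0 ∧ k • m ∈ Submodule.span ℤ (D.P.root '' ΔP))
      (l : L ⟶ P) (_ : Par.IsLevi l) (_ : ∃ t' : D.T ⟶ L, t' ≫ l ≫ p = D.i),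
      Red.IsCentralizerOf (Red.DSmap S N.mkQ.toAddMonoidHom ≫ D.split.inv.hom.hom ≫ D.i) (l ≫ p)) :
    False := by
  let y : Module.Dual ℤ D.M := D.P.coroot a₀
  have hy : y (D.P.root a₀) = 2 := coroot_root D.toSplitRed a₀
  obtain ⟨P, _, p, hp, hpar⟩ := K547.DynTools.exists_isDynP (lam D.toSplitRed he y) D.reductive
  have hGa : IsAffineHom G.hom := D.reductive.1
  obtain ⟨L, _, z, hz, -⟩ := DynExist998.exists_isDynZ (lam D.toSplitRed he y)
  obtain ⟨l, rfl⟩ := DynLevi998.exists_zP hp hz
  have hl : Par.IsLevi l := K547.DynTools.isLevi_of_isDynZ (lam D.toSplitRed he y) D.reductive hp hz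
  -- the torus
  obtain ⟨t', ht'⟩ := (hz.iff_ptZ _ _).2 (ptZ_torus D.toSplitRed he y)
  -- `Δ(P)` is empty
  have hneg : ∀ b : D.idx, D.P.root b = - D.P.root a₀ →
      ¬ ∃ v : Red.Ga S ⟶ P, v ≫ p = D.u b := by
    rintro b hb hv
    have h3 := nonneg_of_ptP D.toSplitRed he y (c := c₁) h₁ b ((hp.iff_ptP _ _).1 hv)
    rw [hb, map_neg, hy] at h3
    omega
  have h4 := H p hpar ⟨t' ≫ l, by rw [Category.assoc]; exact ht'⟩ (by
      intro a ha
      apply (hp.iff_ptP _ _).2
      apply ptP_root
      have h5 : (D.base.support : Set D.idx) = {a₀} := by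
        ext a
        simp [hD]
      rw [h5, Set.image_singleton, AddSubmonoid.mem_closure_singleton] at ha
      obtain ⟨n, hn⟩ := ha
      rw [← hn, map_nsmul, hy]
      positivity) ∅ (by
      intro a
      simp only [Set.mem_empty_iff_false, false_iff, not_and]
      rintro ha ⟨b, hb, hv⟩
      rw [hD] at ha
      subst ha
      exact hneg b hb hv) ⊥ (by
      intro m
      rw [Set.image_empty, Submodule.span_empty, Submodule.mem_bot]
      constructor
      · rintro rfl
        exact ⟨1, one_ne_zero, by simp⟩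
      · rintro ⟨k, hk, hm⟩
        rw [Submodule.mem_bot] at hm
        exact (smul_eq_zero.1 hm).resolve_left hk) l hl ⟨t', ht'⟩
  -- over the second part of the base, the root group lies in `L`
  let g : aff C₂ c₂ ⟶ G := gaPt (aff C₂ c₂) 1 ≫ D.u a₀
  have h5 := (h4.2.2 _ g).1 ((hz.iff_ptZ _ _).2 (ptZ_of_res_eq_zero D.toSplitRed he y h₂ g))
  -- but it does not commute with the torus
  let yb : (D.M ⧸ (⊥ : Submodule ℤ D.M)) →+ ℤ :=
    ((⊥ : Submodule ℤ D.M).liftQ y bot_le).toAddMonoidHom
  have hyb : yb.comp ((⊥ : Submodule ℤ D.M).mkQ).toAddMonoidHom = y.toAddMonoidHom := by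
    ext m
    rfl
  have h6 := h5 (gmo C₂ c₂) (gmPr C₂ c₂) (tPt C₂ c₂ ≫ Red.DSmap S yb)
  have h7 : (tPt C₂ c₂ ≫ Red.DSmap S yb) ≫
      Red.DSmap S ((⊥ : Submodule ℤ D.M).mkQ).toAddMonoidHom = tPt C₂ c₂ ≫ Red.DSmap S y.toAddMonoidHom := by
    apply (dsEquiv _ _).symm.injective
    change dsChar _ = dsChar _
    rw [dsChar_DSmap, dsChar_DSmap, dsChar_DSmap, ← hyb]
    rfl
  have h8 : (tPt C₂ c₂ ≫ Red.DSmap S yb) ≫ Red.DSmap S ((⊥ : Submodule ℤ D.M).mkQ).toAddMonoidHom ≫
      D.split.inv.hom.hom ≫ D.i = tPt C₂ c₂ ≫ coch D.toSplitRed y := by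
    rw [← Category.assoc, h7, coch, cochT, Category.assoc, Category.assoc]
  rw [h8] at h6
  have h9 : orb (coch D.toSplitRed y) g = gmPr C₂ c₂ ≫ g := by
    rw [orb, ← h6, mul_inv_cancel_right]
  rw [orb_root, hy, map_one, _root_.mul_one, ← Category.assoc, comp_gaPt, cancel_mono] at h9
  have h10 := congrArg Red.gaFn h9
  rw [gaFn_gaPt, gaFn_gaPt, map_one] at h10
  have h11 : Polynomial.toLaurent (Polynomial.X ^ 2 : C₂[X]) = Polynomial.toLaurent 1 := by
    apply inv_injective C₂[T;T⁻¹]
    rw [Polynomial.toLaurent_X_pow, map_one, map_one]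
    exact h10
  have h12 := congrArg (fun f => f.coeff 2) (Polynomial.toLaurent_injective h11)
  simp [Polynomial.coeff_one] at h12

end Main

/-- The statement of S12115 (`Par.levi_containing_torus_eq_centralizer_of_pinning_adapted`), all binders as in the
frozen statement. -/
def Statement : Prop :=
  ∀ {S : Scheme.{u}} {G P L : Over S}
    [GrpObj G] [GrpObj P] [GrpObj L] (D : Red.Pinning G) (p : P ⟶ G) (_ : Red.IsParabolic p)
    (_ : ∃ t : D.T ⟶ P, t ≫ p = D.i)
    (_ : ∀ a : D.idx, D.P.root a ∈ AddSubmonoid.closure (D.P.root '' (D.base.support : Set D.idx)) →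
      ∃ v : Red.Ga S ⟶ P, v ≫ p = D.u a)
    (ΔP : Set D.idx)
    (_ : ∀ a : D.idx, a ∈ ΔP ↔ (a ∈ D.base.support ∧
      ∃ b : D.idx, D.P.root b = - D.P.root a ∧ ∃ v : Red.Ga S ⟶ P, v ≫ p = D.u b))
    (N : Submodule ℤ D.M)
    (_ : ∀ m : D.M, m ∈ N ↔ ∃ k : ℤ, k ≠ 0 ∧ k • m ∈ Submodule.span ℤ (D.P.root '' ΔP))
    (l : L ⟶ P) (_ : Par.IsLevi l) (_ : ∃ t' : D.T ⟶ L, t' ≫ l ≫ p = D.i),
    Red.IsCentralizerOf (Red.DSmap S N.mkQ.toAddMonoidHom ≫ D.split.inv.hom.hom ≫ D.i) (l ≫ p) ∧
    (∃ r₀ : Red.DS S (D.M ⧸ N) ⟶ L, r₀ ≫ l ≫ p = Red.DSmap S N.mkQ.toAddMonoidHom ≫ D.split.inv.hom.hom ≫ D.i) ∧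
    ∀ (ZL : Over S) [GrpObj ZL] (jz : ZL ⟶ L), Red.IsCentre jz →
      ∃ r : Red.DS S (D.M ⧸ N) ⟶ ZL, r ≫ jz ≫ l ≫ p = Red.DSmap S N.mkQ.toAddMonoidHom ≫ D.split.inv.hom.hom ≫ D.i ∧
        Red.IsMaximalTorus r

lemma res_aff {A C : Type u} [CommRing A] [CommRing C] (f : A →+* C) (a : A) :
    res ((Scheme.ΓSpecIso (CommRingCat.of A)).inv a) (aff C (Spec.map (CommRingCat.ofHom f))) =
      (Scheme.ΓSpecIso (CommRingCat.of C)).inv (f a) :=
  congr($(Scheme.ΓSpecIso_inv_naturality (CommRingCat.ofHom f)) a).symm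

/-- **S12115 is false as written**, in every universe. -/
theorem refuted : ¬ Statement.{u} := by
  intro H
  let A : Type u := ULift.{u} ℤ × ULift.{u} ℤ
  let S : Scheme.{u} := Spec (CommRingCat.of A)
  obtain ⟨G, _, D, h, hD⟩ := Groth.Agent.S3950.result.{u} S RD RB
  refine refute (S := S) (G := G) D (h.indexEquiv.symm true) ?_
    (e := (Scheme.ΓSpecIso (CommRingCat.of A)).inv ((1, 0) : A)) ?_
    (C₁ := ULift.{u} ℤ) (Spec.map (CommRingCat.ofHom (RingHom.fst _ _))) ?_
    (C₂ := ULift.{u} ℤ) (Spec.map (CommRingCat.ofHom (RingHom.snd _ _))) ?_ ?_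
  · intro a
    rw [hD, Equiv.eq_symm_apply]
    simp [RB]
  · rw [← map_mul]
    exact congrArg _ (Prod.ext (_root_.mul_one _) (mul_zero _))
  · rw [res_aff]
    exact map_one _
  · rw [res_aff]
    exact map_zero _
  · intro P L _ _ p h1 h2 h3 ΔP h4 N h5 l h6 h7
    exact (H D p h1 h2 h3 ΔP h4 N h5 l h6 h7).1

end Groth.Agent.Refuted.S12115
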