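import Groth.Prelude.Def_Models
import Groth.Prelude.Def_ModelsSS
import Groth.Prelude.Def_ModelsG
import Groth.Prelude.Def_SGA7IX
import Groth.Prelude.Def_AbDual
import Groth.Prelude.Def_Pic
import Groth.Prelude.Def_CohB1
import Groth.Prelude.Def_Coh
import Groth.Agent.AgPol.K438.Ell
import Groth.Agent.AgPol.K814.DualNode
import Groth.Agent.AbDual.K732.BC
import Groth.Agent.AgPol.K533.PolBC
import Groth.Agent.Sga7.H274.GoodSemi
import Groth.Agent.Sga3B.BcIso
import Groth.Agent.Sga3B.DimFib
import Groth.Agent.TopDim.K284.Basic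
import Groth.Agent.S11892
import Groth.Agent.S0223
import Mathlib.Algebra.Field.ULift
import Mathlib.FieldTheory.IsAlgClosed.AlgebraicClosure
import Mathlib.RingTheory.PowerSeries.Inverse

/-!
# Refutation of `S15113` (`Models.hasSemistableReduction_iff_jacobian_hasSemistableReduction`)

The frozen statement is meant for a smooth proper CURVE `C` over `K = Frac R`, but no hypothesis says that `C` has
dimension one: `C` is any smooth proper `K`-scheme with `dim H^0(C, O_C) = 1` and `dim H^1(C, O_C) ≥ 2`.

Counterexample. Let `k` be an algebraically closed field, `A` an abelian surface over `k`, `A^t` its dual,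
`R = k[[x]]`, `K = Frac R`, `C = A ×_k K` and `J = A^t ×_k K`. Then `h^0(C, O_C) = 1`, `h^1(C, O_C) = 2`, `J`
represents the fppf sheafified `Pic^0` of `C` and is the generic fibre of the abelian scheme `A^t ×_k R`, so it has
semi-stable reduction; but `C` has no at-worst-nodal model, because all irreducible components of the fibres of an
at-worst-nodal family have dimension one and `dim C = 2`.

The error was found by helper567 and helper995 (`departures/helper567.md`); Lean text by helper746 (job 584). `Stmt` is
literally (structurally) the type of the frozen constant `Models.GrothFrozen.S15113`; `refuted` holds in every universe.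
-/

set_option autoImplicit false
universe u
set_option linter.unusedVariables false
open CategoryTheory CategoryTheory.Limits MonoidalCategory CartesianMonoidalCategory MonObj GrpObj AlgebraicGeometry

namespace Groth.Agent.Refuted.S15113

/-- The frozen statement of `S15113` as a proposition. -/
def Stmt : Prop :=
  ∀ (R : Type u) [CommRing R] [IsDomain R] [IsDiscreteValuationRing R]
    (hk : IsAlgClosed (IsLocalRing.ResidueField R))
    (C : Scheme.{u}) (fC : C ⟶ (Spec (CommRingCat.of (FractionRing R)))) [IsProper fC] [Smooth fC]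
    (hC0 : Models.hRank (FractionRing R) C fC (Coh.structureModule C) 0 = 1)
    (hg : 2 ≤ Models.curveGenus (FractionRing R) C fC)
    (J : Over (Spec (CommRingCat.of (FractionRing R)))) [GrpObj J] [IsCommMonObj J] [IsProper J.hom] [Smooth J.hom]
    (φ : ∀ T : Over (Spec (CommRingCat.of (FractionRing R))), PicF.Cl (PicF.XT fC T) → (T ⟶ J))
    (hJ : AbDual.IsRelPicZeroK Scheme.fppfPrecoverage fC J φ)
    (hmul : ∀ (T : Over (Spec (CommRingCat.of (FractionRing R)))) (L M : (PicF.XT fC T).Modules), AbDual.IsPicZeroCl fC T (PicF.cl L) →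
      AbDual.IsPicZeroCl fC T (PicF.cl M) → φ T (PicF.cl (CohB1.tensorMod L M)) = φ T (PicF.cl L) * φ T (PicF.cl M)),
    Models.HasSemistableReduction R C fC ↔ SGA7.HasSemistableReduction R (FractionRing R) J

/-! ### A scheme with an at-worst-nodal model has dimension one -/

section Nodal

/-- The base change of a nodal family to a field-valued point has dimension one if it is not empty. -/
theorem dim_eq_one {X S C : Scheme.{u}} {p : X ⟶ S} [LocallyOfFiniteType p] (hn : Curv2.IsNodalFamily p)
    (K : Type u) [Field K] {f : C ⟶ Spec (CommRingCat.of K)} (x : Spec (CommRingCat.of K) ⟶ S) {g : C ⟶ X}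
    (hg : IsPullback g f p x) [Nonempty C] : topologicalKrullDim C = 1 := by
  let s : S := x (IsLocalRing.closedPoint K)
  let ψ : S.residueField s ⟶ CommRingCat.of K := Scheme.descResidueField (Scheme.stalkClosedPointTo x)
  have hψ : Spec.map ψ ≫ S.fromSpecResidueField s = x :=
    Scheme.descResidueField_stalkClosedPointTo_fromSpecResidueField K S x
  have hP : IsPullback (p.fiberι s) (p.fiberToSpecResidueField s) p (S.fromSpecResidueField s) :=
    IsPullback.of_hasPullback _ _
  let q : C ⟶ p.fiber s := hP.lift g (f ≫ Spec.map ψ) (by rw [hg.w, Category.assoc, hψ])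
  have hq1 : q ≫ p.fiberι s = g := hP.lift_fst _ _ _
  have hq2 : q ≫ p.fiberToSpecResidueField s = f ≫ Spec.map ψ := hP.lift_snd _ _ _
  have hq : IsPullback q f (p.fiberToSpecResidueField s) (Spec.map ψ) := by
    refine IsPullback.of_right (h₁₂ := p.fiberι s) (v₁₃ := p) (h₂₂ := S.fromSpecResidueField s) ?_ hq2 hP
    rw [hq1, hψ]
    exact hg
  have hft : LocallyOfFiniteType (p.fiberToSpecResidueField s) := MorphismProperty.of_isPullback hP inferInstance
  rw [Groth.Agent.Sga3B.DimFib.topologicalKrullDim_baseChange_eq (k := S.residueField s) (Ω := CommRingCat.of K)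
    (Field.toIsField _) (Field.toIsField _) (p.fiberToSpecResidueField s) (Spec.map ψ) q f hq,
    K284.TopDim.dim_eq_iSup_irreducibleComponents]
  have hdim := (hn.2.2 s).1
  obtain ⟨c⟩ : Nonempty C := inferInstance
  have hc : irreducibleComponent (q c) ∈ irreducibleComponents (p.fiber s : Type u) :=
    irreducibleComponent_mem_irreducibleComponents _
  refine le_antisymm (iSup₂_le fun Z hZ => (hdim Z hZ).le) ?_
  exact (hdim _ hc).ge.trans (le_iSup₂ (f := fun Z (_ : Z ∈ irreducibleComponents (p.fiber s : Type u)) =>
    topologicalKrullDim Z) _ hc)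

theorem not_hasSemistableReduction {R : Type u} [CommRing R] [IsDomain R] [IsDiscreteValuationRing R]
    {C : Scheme.{u}} {f : C ⟶ Spec (CommRingCat.of (FractionRing R))} [Nonempty C]
    (hd : topologicalKrullDim C = 2) : ¬ Models.HasSemistableReduction R C f := by
  rintro ⟨X, p, ⟨-, -, -, g, hg⟩, hp, hn⟩
  have h1 := dim_eq_one hn (FractionRing R) _ hg
  rw [hd] at h1
  exact absurd h1 (by norm_num)

end Nodal

/-! ### Cohomology of the structure sheaf of an abelian variety after an extension of the base field -/

theorem krullDim {k : Type u} [Field k] {B : Over (Spec (CommRingCat.of k))} {g : ℕ} (hB : AgPol.IsAbSch B g) :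
    topologicalKrullDim B.left = g := by
  have s : (Spec (CommRingCat.of k) : Scheme.{u}) := IsLocalRing.closedPoint k
  have h1 : B.hom ⁻¹' {s} = Set.univ := by
    ext x
    simp only [Set.mem_preimage, Set.mem_singleton_iff, Set.mem_univ, iff_true]
    exact Subsingleton.elim _ _
  rw [← hB.fibreDim s]
  exact (IsHomeomorph.topologicalKrullDim_eq _
    (((B.hom.fiberHomeo s).trans (Homeomorph.setCongr h1)).trans (Homeomorph.Set.univ _)).isHomeomorph).symm

/-- `h^i(A_K, O) = C(g, i)`. -/
theorem hRank_bc {k : Type u} [Field k] [IsAlgClosed k] (A : Over (Spec (CommRingCat.of k))) [G : GrpObj A] {g : ℕ}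
    (hA : AgPol.IsAbSch A g) (K : Type u) [Field K] [Algebra k K] {C : Scheme.{u}}
    {f : C ⟶ Spec (CommRingCat.of K)} {q : C ⟶ A.left}
    (hq : IsPullback q f A.hom (Spec.map (CommRingCat.ofHom (algebraMap k K)))) (i : ℕ) :
    Models.hRank K C f (Coh.structureModule C) i = Nat.choose g i := by
  have i1 := hA.smooth
  have i2 := hA.proper
  have i3 := hA.geomConnected
  let _ : A.left.Over (Spec (CommRingCat.of k)) := ⟨A.hom⟩
  let _ : C.Over (Spec (CommRingCat.of K)) := ⟨f⟩
  have j1 : IsProper (A.left ↘ Spec (CommRingCat.of k)) := hA.proper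
  have j2 : Smooth (A.left ↘ Spec (CommRingCat.of k)) := hA.smooth
  let j3 : GrpObj (Over.mk (A.left ↘ Spec (CommRingCat.of k))) := G
  have hi := K814.AbBasic.geometricallyIntegral A
  have j4 : IsIntegral A.left := GeometricallyIntegral.isIntegral_of_subsingleton A.hom
  have h1 := Groth.Agent.S0223.finrank_eq k A.left K C q hq i
  have h2 := Groth.Agent.S11892.result k A.left g (krullDim hA) i
  exact h1.trans h2

/-! ### The counterexample -/

/-- The residue field of `k[[x]]` is algebraically closed if `k` is. -/
theorem isAlgClosed_residueField (k : Type u) [Field k] [IsAlgClosed k] :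
    IsAlgClosed (IsLocalRing.ResidueField (PowerSeries k)) :=
  IsAlgClosed.of_ringEquiv k _ (PowerSeries.residueFieldOfPowerSeries (k := k)).symm

/-- `S15113` is false as written, in every universe. -/
theorem refuted : ¬ Stmt.{u} := by
  intro H
  let k : Type u := AlgebraicClosure (ULift.{u} ℚ)
  obtain ⟨A, G, cA, L, hA, hL, -⟩ := K438.NE.good k 2 1 (by norm_num) le_rfl
  obtain ⟨At, Gt, cAt, φ, -, hAt, hD, -⟩ := K814.DualNode.exists_dual hA hL.1
    (Groth.Agent.Ega2.RelAmp.isRelAmple_iff_isAmple.2 hL)
  let R : Type u := PowerSeries k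
  let K : Type u := FractionRing R
  let s : Spec (CommRingCat.of R) ⟶ Spec (CommRingCat.of k) := Spec.map (CommRingCat.ofHom (algebraMap k R))
  let t : Spec (CommRingCat.of K) ⟶ Spec (CommRingCat.of R) := Spec.map (CommRingCat.ofHom (algebraMap R K))
  have hts : t ≫ s = Spec.map (CommRingCat.ofHom (algebraMap k K)) := by
    rw [← Spec.map_comp, ← CommRingCat.ofHom_comp, ← IsScalarTower.algebraMap_eq]
  have hC := K533.PolBC.isAbSch_bc (t ≫ s) hA
  have hJ := K533.PolBC.isAbSch_bc (t ≫ s) hAt
  have hB := K533.PolBC.isAbSch_bc s hAt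
  have hDK := K732.BC.isDualAV_bc (k := t ≫ s) hD
  have c1 := hC.smooth
  have c2 := hC.proper
  have d1 := hJ.smooth
  have d2 := hJ.proper
  have b1 := hB.smooth
  have b2 := hB.proper
  have hq : IsPullback (pullback.fst A.hom (t ≫ s)) (Red.bc (t ≫ s) A).hom A.hom
      (Spec.map (CommRingCat.ofHom (algebraMap k K))) := by
    rw [← hts]
    exact IsPullback.of_hasPullback A.hom (t ≫ s)
  have h0 : Models.hRank K (Red.bc (t ≫ s) A).left (Red.bc (t ≫ s) A).hom (Coh.structureModule _) 0 = 1 :=
    hRank_bc A hA K hq 0
  have h1 : Models.hRank K (Red.bc (t ≫ s) A).left (Red.bc (t ≫ s) A).hom (Coh.structureModule _) 1 = 2 :=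
    hRank_bc A hA K hq 1
  have hd : topologicalKrullDim (Red.bc (t ≫ s) A).left = 2 := krullDim hC
  have hgi := K451.Prod.geometricallyIntegral_of_isAbSch hC
  have hint : IsIntegral (Red.bc (t ≫ s) A).left :=
    GeometricallyIntegral.isIntegral_of_subsingleton (Red.bc (t ≫ s) A).hom
  have key := H R (isAlgClosed_residueField k) (Red.bc (t ≫ s) A).left (Red.bc (t ≫ s) A).hom h0 h1.ge
    (Red.bc (t ≫ s) At) (AgPol.bcDual (t ≫ s) A At φ) hDK.relPic hDK.mul
  refine not_hasSemistableReduction hd (key.2 ?_)
  let e := Groth.Agent.Sga3B.BcIso.bcCompIso t s At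
  refine ⟨Red.bc s At, inferInstance, (Grp.forget _).mapIso e.symm, ?_, b1, inferInstance, inferInstance,
    Groth.Agent.Sga7.H274.GoodSemi.fibresUnipotentRankZero_of_isProper _⟩
  exact inferInstanceAs (IsMonHom e.symm.hom.hom.hom)

end Groth.Agent.Refuted.S15113
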