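import Groth.Agent.Refuted.K836.Iface
import Groth.Agent.Refuted.K870.SplitNu
import Groth.Agent.Refuted.K870.Inst
import Groth.Agent.Refuted.K826.Geo

/-!
# S15710 is false as written

`refuted : ¬ Stmt` where `Stmt` is the frozen statement S15710 word for word (every universe level, axioms
`propext`, `Classical.choice`, `Quot.sound`).

The statement assumes neither that `X` is normal nor a Grauert–Riemenschneider vanishing for `X`; the argument
of the source needs `R^p f_* ω_X = 0` for `p > 0`, and without it "trace surjective on `h^{-d}`" does not give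
a cohomological equivalence.  The counterexample, over a field `k`:

* `T = k[x, y][e₁, e₂]/(e₁, e₂)²`, `Y = Spec T`, of finite type over `k`, irreducible, Cohen–Macaulay, dimension 2;
* `f : X ⟶ Y` the blow-up in `I = (x², xy, y², η)`, `η = x e₁ + y e₂`.  It has two charts, both isomorphic to
  `Spec T` (coordinates `x, t = y/x, α = η/x², e₂` and `y, s = x/y, γ = η/y², e₁`), so `X` is Cohen–Macaulay,
  irreducible of dimension 2; `f` is projective and an isomorphism off the closed set `x = y = 0` of
  codimension 2;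
* the Čech class of `α / t` is not zero: `R¹f_* O_X ≠ 0`;
* the blow-up `f'' : X'' ⟶ Y` in `J = (x, y, e₁, e₂)` factors through `f` and satisfies `Rf''_* O_{X''} = O_Y`;
  hence `O_Y ⟶ Rf_* O_X` has a left inverse, and by duality every trace `Rf_* f^! K ⟶ K` is a split
  epimorphism on cohomology (over the Noetherian affine `Y`); a dualizing `K` in degree `-2` only exists since `Y`
  is Cohen–Macaulay and of finite type over `k`.

So all hypotheses hold and the conclusion `R^p f_* O_X = 0`, `p = 1`, fails.  The corrected statement (with the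
vanishing of the higher direct images of `ω_X`) is in `Groth/Agent/Restated/`.

Joint work of the team (job 586): geometry `K390`, `K467`, `K640`, `K855`, `K332`, `K899`, cohomology `K609`,
duality `K870`, interface `K836`, ring and assembly `K826`.
-/

set_option autoImplicit false
set_option linter.unusedVariables false
universe u
open CategoryTheory CategoryTheory.Limits AlgebraicGeometry TopologicalSpace
attribute [local instance] HasDerivedCategory.standard

namespace Groth.Agent.Refuted.S15710

/-- The frozen statement S15710 (`RatSing.kempf_criterion_cohomological_equivalence_of_pseudoRational`). -/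
def Stmt : Prop := ∀ (X Y : Scheme.{u}) (d : ℕ)
    [IsLocallyNoetherian X] [IsNoetherian Y]
    (hexcX : ∀ V : X.affineOpens, EGA4.IsExcellent Γ(X, V.1)) (hexcY : ∀ V : Y.affineOpens, EGA4.IsExcellent Γ(Y, V.1))
    (hcmX : ∀ x : X, LocCoh.IsCohenMacaulayLocalRing (X.presheaf.stalk x))
    (hcmY : ∀ y : Y, LocCoh.IsCohenMacaulayLocalRing (Y.presheaf.stalk y))
    (hpdX : ∀ Z ∈ irreducibleComponents (X : Type u), topologicalKrullDim Z = d)
    (hpdY : ∀ Z ∈ irreducibleComponents (Y : Type u), topologicalKrullDim Z = d)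
    [∀ (U : Scheme.{u}) (j : U ⟶ Y) [IsOpenImmersion j], PreservesFiniteLimits (Scheme.Modules.restrictFunctor j)]
    [∀ (R : CommRingCat.{u}), PreservesFiniteLimits (tilde.functor R)]
    (f : X ⟶ Y) (hproj : ∀ y : Y, ∃ U : Y.Opens, y ∈ U ∧ RelProj.IsHProjective (f ∣_ U))
    (V : Y.Opens) (hV : ∀ y : Y, y ∉ V → (2 : WithBot ℕ∞) ≤ ringKrullDim (Y.presheaf.stalk y))
    (hVX : Dense ((f ⁻¹ᵁ V : X.Opens) : Set X)) [IsIso (f ∣_ V)]
    [DCoh.HasRpush f] (h : DCoh.RpushPreservesQCoh f) [DCoh.HasShriek f h]
    (K : DCoh.DQCoh Y) (hK : Dual2.IsDualizingSch Y K.obj)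
    (hKd : ∀ i : ℤ, i ≠ -(d : ℤ) → IsZero (DCoh.HD K.obj i))
    (hsurj : Epi ((DerivedCategory.homologyFunctor Y.Modules (-(d : ℤ))).map
      ((ObjectProperty.ι DCoh.IsQCohD).map ((DCoh.trace f h).app K))))
    [HasInjectiveResolutions X.Modules],
    IsIso ((ObjectProperty.ι DCoh.IsQCohD).map ((DCoh.trace f h).app K)) ∧
      IsIso (ClSub.unitToPush f) ∧
      (∀ p : ℕ, 0 < p → IsZero ((Coh.Rpush f p).obj (Coh.structureModule X))) ∧
      (∀ p : ℕ, 0 < p → IsZero ((Coh.Rpush f p).obj (DCoh.HD ((DCoh.shriek f h).obj K).obj (-(d : ℤ)))))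

open K836 in
/-- The negation from the geometric data of the example. -/
theorem not_stmt (E : GeoEx.{u}) (D : DualEx E) 
    (hr : ∀ [DCoh.HasRpush E.f] [DCoh.HasLpull E.f], K870.SplitNu.HasRetr E.f)
    (h1 : ∀ [HasInjectiveResolutions E.X.Modules], ¬ IsZero ((Coh.Rpush E.f 1).obj (Coh.structureModule E.X))) :
    ¬ Stmt.{u} := by
  intro H
  have := E.noethX
  have := E.noethY
  have := E.iso
  have := E.prop
  have i1 := D.r1
  have i2 := D.r2
  have i3 : DCoh.HasRpush E.f := K870.Inst.hasRpush E.f
  have i3' : DCoh.HasLpull E.f := K870.Inst.hasLpull E.f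
  have h := K870.Inst.rpushPreservesQCoh E.f
  have i4 : DCoh.HasShriek E.f h := K870.Inst.hasShriek E.f h
  have i5 := K870.Inst.hasInjectiveResolutions E.X
  obtain ⟨-, -, h2, -⟩ := H E.X E.Y 2 E.excX E.excY E.cmX E.cmY E.pdX E.pdY E.f E.proj E.V E.codim E.denseVX h
    D.K D.dual D.deg (K870.SplitNu.epi_homology_trace hr h D.K _)
  exact h1 (h2 1 one_pos)

/-- S15710 is false. -/
theorem refuted : ¬ Stmt.{u} := by
  obtain ⟨X, b, hb⟩ := K826.Common.exists_example.{u}
  obtain ⟨D⟩ := K826.Common.nonempty_dualEx _ hb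
  exact not_stmt _ D (K826.Common.hasRetr_geoEx _ hb) (K826.Common.not_isZero_geoEx _ hb)

end Groth.Agent.Refuted.S15710
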