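import Groth.Agent.Refuted.K826.Geo

/-!
# S15711 is false

The frozen statement S15711 (Kovács' splitting criterion for cohomological equivalences) as the proposition `Stmt`,
word for word, and its negation `refuted`.

The counterexample is the two-chart example shared with S15710 and S15718: `T = k[x, y][e₁, e₂] / (e₁, e₂)²`,
`Y = Spec T`, `f : X ⟶ Y` the blow-up in `I = (x², xy, y², x e₁ + y e₂)`. Both charts of `X` are copies of `Spec T`,
so `X` and `Y` are excellent and Cohen–Macaulay; `f` is projective and an isomorphism off the origin; `X'' = Bl_J Y`,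
`J = (x, y, e₁, e₂)`, maps to `X` and `Rf''_* O_{X''} = O_Y`, which splits `O_Y ⟶ Rf_* O_X`; and `R¹f_* O_X ≠ 0`.
-/

set_option autoImplicit false
universe u
open CategoryTheory CategoryTheory.Limits AlgebraicGeometry TopologicalSpace
attribute [local instance] HasDerivedCategory.standard

namespace Groth.Agent.Refuted.S15711

/-- The frozen statement S15711, as a proposition. -/
def Stmt : Prop :=
  ∀ (X Y : Scheme.{u})
    [IsLocallyNoetherian X] [IsNoetherian Y]
    (hexcX : ∀ V : X.affineOpens, EGA4.IsExcellent Γ(X, V.1)) (hexcY : ∀ V : Y.affineOpens, EGA4.IsExcellent Γ(Y, V.1))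
    (hcmX : ∀ x : X, LocCoh.IsCohenMacaulayLocalRing (X.presheaf.stalk x))
    (hcmY : ∀ y : Y, LocCoh.IsCohenMacaulayLocalRing (Y.presheaf.stalk y))
    [∀ (U : Scheme.{u}) (j : U ⟶ Y) [IsOpenImmersion j], PreservesFiniteLimits (Scheme.Modules.restrictFunctor j)]
    [∀ (R : CommRingCat.{u}), PreservesFiniteLimits (tilde.functor R)]
    (hK : ∃ K : DCoh.D Y, Dual2.IsDualizingSch Y K)
    (f : X ⟶ Y) (hproj : ∀ y : Y, ∃ U : Y.Opens, y ∈ U ∧ RelProj.IsHProjective (f ∣_ U))
    (hbir : ∃ V : Y.Opens, Dense (V : Set Y) ∧ Dense ((f ⁻¹ᵁ V : X.Opens) : Set X) ∧ IsIso (f ∣_ V))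
    [DCoh.HasRpush f] (h : DCoh.RpushPreservesQCoh f) [DCoh.HasLpull f] (hL : Dual3.LpullPreservesQCoh f)
    (adjL : Dual3.LpullQ f hL ⊣ DCoh.RpushQ f h)
    (OY : DCoh.DQCoh Y) (eY : OY.obj ≅ DCoh.inD Y (Coh.structureModule Y))
    (OX : DCoh.DQCoh X) (eX : OX.obj ≅ DCoh.inD X (Coh.structureModule X))
    (e : (Dual3.LpullQ f hL).obj OY ≅ OX)
    (hsplit : ∃ η' : (DCoh.RpushQ f h).obj OX ⟶ OY, IsIso (adjL.unit.app OY ≫ (DCoh.RpushQ f h).map e.hom ≫ η'))
    [HasInjectiveResolutions X.Modules],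
    IsIso (ClSub.unitToPush f) ∧ ∀ p : ℕ, 0 < p → IsZero ((Coh.Rpush f p).obj (Coh.structureModule X))

open K836 in
/-- The negation from the geometric data of the example. -/
theorem not_stmt (E : GeoEx.{u}) (D : DualEx E)
    (hr : ∀ [DCoh.HasRpush E.f] [DCoh.HasLpull E.f], K870.SplitNu.HasRetr E.f)
    (h1 : ∀ [HasInjectiveResolutions E.X.Modules], ¬ IsZero ((Coh.Rpush E.f 1).obj (Coh.structureModule E.X))) :
    ¬ Stmt.{u} := by
  intro H
  have := E.noethX
  have := E.noethY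
  have := E.prop
  have i1 := D.r1
  have i2 := D.r2
  have i3 : DCoh.HasRpush E.f := K870.Inst.hasRpush E.f
  have i3' : DCoh.HasLpull E.f := K870.Inst.hasLpull E.f
  have h := K870.Inst.rpushPreservesQCoh E.f
  have hL := K870.Inst.lpullPreservesQCoh E.f
  have i5 := K870.Inst.hasInjectiveResolutions E.X
  exact h1 ((H E.X E.Y E.excX E.excY E.cmX E.cmY ⟨D.K.obj, D.dual⟩ E.f E.proj ⟨E.V, E.denseV, E.denseVX, E.iso⟩
    h hL (K870.Inst.adjQ E.f h hL) (K870.Inst.OQ E.Y) (Iso.refl _) (K870.Inst.OQ E.X) (Iso.refl _)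
    (K870.Inst.lpullOQ E.f hL)
    (K870.SplitNu.exists_split hr h hL (K870.Inst.adjQ E.f h hL) (K870.Inst.OQ E.Y) (Iso.refl _)
      (K870.Inst.OQ E.X) (Iso.refl _) (K870.Inst.lpullOQ E.f hL))).2 1 one_pos)

/-- S15711 is false. -/
theorem refuted : ¬ Stmt.{u} := by
  obtain ⟨X, b, hb⟩ := K826.Common.exists_example.{u}
  obtain ⟨D⟩ := K826.Common.nonempty_dualEx _ hb
  exact not_stmt _ D (K826.Common.hasRetr_geoEx _ hb) (K826.Common.not_isZero_geoEx _ hb)

end Groth.Agent.Refuted.S15711
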