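import Groth.Agent.Refuted.K836.Of718
import Groth.Agent.Refuted.K826.Geo

/-!
# S15718 is false as written: the negation of the frozen statement

Take `Y = Spec B`, `B = k[x, y][e₁, e₂] / (e₁, e₂)²` (free of rank 3 over `k[x, y]`, hence Cohen-Macaulay of pure
dimension 2), and `f : X ⟶ Y` the blow-up in the ideal `(x², xy, y², x e₁ + y e₂)`.  Both charts of `X` are again
isomorphic to `Spec B`, so `X` is Cohen-Macaulay (but not normal), `f` is projective and an isomorphism away from the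
origin, `O_Y ⟶ Rf_* O_X` has a left inverse (so the trace `Rf_* f^! K ⟶ K` is a split epimorphism for every `K`) and
`H¹(X, O_X) ≠ 0`.  In S15718 put (in its notation) `S = X = Spec B`, `Y = Z =` this blow-up, `φ = 𝟙`, `ψ = χ = f`,
`ζ = 𝟙`: all hypotheses hold, while the conclusion `Rφ_* O_X ≅ Rψ_* O_Y` would give `H¹ = 0`.
-/
set_option autoImplicit false
universe u
open CategoryTheory CategoryTheory.Limits AlgebraicGeometry TopologicalSpace
attribute [local instance] HasDerivedCategory.standard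


namespace Groth.Agent.Refuted.S15718

set_option linter.unusedVariables false in
/-- The negation of the frozen statement S15718 (all binders as in the template). -/
theorem refuted : ¬ (∀ (S X Y Z : Scheme.{u}) (d : ℕ)
    [IsNoetherian X] [IsNoetherian Y] [IsLocallyNoetherian Z]
    (hexcX : ∀ U : X.affineOpens, EGA4.IsExcellent Γ(X, U.1)) (hexcY : ∀ U : Y.affineOpens, EGA4.IsExcellent Γ(Y, U.1))
    (hexcZ : ∀ U : Z.affineOpens, EGA4.IsExcellent Γ(Z, U.1))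
    (hcmX : ∀ x : X, LocCoh.IsCohenMacaulayLocalRing (X.presheaf.stalk x))
    (hcmY : ∀ y : Y, LocCoh.IsCohenMacaulayLocalRing (Y.presheaf.stalk y))
    (hcmZ : ∀ z : Z, LocCoh.IsCohenMacaulayLocalRing (Z.presheaf.stalk z))
    (hpdX : ∀ C ∈ irreducibleComponents (X : Type u), topologicalKrullDim C = d)
    (hpdZ : ∀ C ∈ irreducibleComponents (Z : Type u), topologicalKrullDim C = d)
    (hpdY : ∀ C ∈ irreducibleComponents (Y : Type u), topologicalKrullDim C = d)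
    [∀ (U : Scheme.{u}) (j : U ⟶ X) [IsOpenImmersion j], PreservesFiniteLimits (Scheme.Modules.restrictFunctor j)]
    [∀ (U : Scheme.{u}) (j : U ⟶ Y) [IsOpenImmersion j], PreservesFiniteLimits (Scheme.Modules.restrictFunctor j)]
    [∀ (R : CommRingCat.{u}), PreservesFiniteLimits (tilde.functor R)]
    (φ : X ⟶ S) (ψ : Y ⟶ S) (χ : Z ⟶ X) (ζ : Z ⟶ Y) [IsProper χ] [IsProper ζ] (hcomm : χ ≫ φ = ζ ≫ ψ)
    (hprojχ : ∀ x : X, ∃ U : X.Opens, x ∈ U ∧ RelProj.IsHProjective (χ ∣_ U))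
    (hprojζ : ∀ y : Y, ∃ U : Y.Opens, y ∈ U ∧ RelProj.IsHProjective (ζ ∣_ U))
    (V : X.Opens) (hV : ∀ x : X, x ∉ V → (2 : WithBot ℕ∞) ≤ ringKrullDim (X.presheaf.stalk x))
    (hVZ : Dense ((χ ⁻¹ᵁ V : Z.Opens) : Set Z)) [IsIso (χ ∣_ V)]
    (V' : Y.Opens) (hV' : ∀ y : Y, y ∉ V' → (2 : WithBot ℕ∞) ≤ ringKrullDim (Y.presheaf.stalk y))
    (hV'Z : Dense ((ζ ⁻¹ᵁ V' : Z.Opens) : Set Z)) [IsIso (ζ ∣_ V')]
    [DCoh.HasRpush χ] (hχ : DCoh.RpushPreservesQCoh χ) [DCoh.HasShriek χ hχ]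
    [DCoh.HasRpush ζ] (hζ : DCoh.RpushPreservesQCoh ζ) [DCoh.HasShriek ζ hζ]
    (K : DCoh.DQCoh X) (hK : Dual2.IsDualizingSch X K.obj) (hKd : ∀ i : ℤ, i ≠ -(d : ℤ) → IsZero (DCoh.HD K.obj i))
    (K' : DCoh.DQCoh Y) (hK' : Dual2.IsDualizingSch Y K'.obj) (hK'd : ∀ i : ℤ, i ≠ -(d : ℤ) → IsZero (DCoh.HD K'.obj i))
    (hsurjχ : Epi ((DerivedCategory.homologyFunctor X.Modules (-(d : ℤ))).map
      ((ObjectProperty.ι DCoh.IsQCohD).map ((DCoh.trace χ hχ).app K))))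
    (hsurjζ : Epi ((DerivedCategory.homologyFunctor Y.Modules (-(d : ℤ))).map
      ((ObjectProperty.ι DCoh.IsQCohD).map ((DCoh.trace ζ hζ).app K'))))
    [DCoh.HasRpush φ] [DCoh.HasRpush ψ] [DCoh.HasRpush (χ ≫ φ)] [DCoh.HasRpush (ζ ≫ ψ)]
    (eφ : DCoh.Rpush χ ⋙ DCoh.Rpush φ ≅ DCoh.Rpush (χ ≫ φ)) (eψ : DCoh.Rpush ζ ⋙ DCoh.Rpush ψ ≅ DCoh.Rpush (ζ ≫ ψ)),
    Nonempty ((DCoh.Rpush φ).obj (DCoh.inD X (Coh.structureModule X)) ≅
      (DCoh.Rpush ψ).obj (DCoh.inD Y (Coh.structureModule Y)))) := by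
  obtain ⟨X, b, hb⟩ := K826.Common.exists_example.{u}
  obtain ⟨D⟩ := K826.Common.nonempty_dualEx _ hb
  have := K870.Inst.hasInjectiveResolutions (K826.Common.geoEx _ hb).X
  refine K836.not_stmt718 (K826.Common.geoEx _ hb) D ?_ (K826.Common.not_isZero_geoEx _ hb)
  intro i h i' K n
  exact @K826.Common.epi_trace _ _ X b hb i h i' K n

end Groth.Agent.Refuted.S15718
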