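import Groth.Prelude.Def_Grpd
import Mathlib.AlgebraicGeometry.Morphisms.Flat
import Mathlib.AlgebraicGeometry.Morphisms.FinitePresentation
import Mathlib.AlgebraicGeometry.Morphisms.FiniteType
import Mathlib.AlgebraicGeometry.Morphisms.Immersion
import Mathlib.AlgebraicGeometry.Morphisms.UniversallyOpen
import Mathlib.AlgebraicGeometry.Restrict
import Mathlib.Algebra.Field.ZMod
import Mathlib.Geometry.RingedSpace.LocallyRingedSpace.HasColimits

/-!
# The frozen statement S16047 is false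

`S` is the spectrum of the Boolean ring `A = 𝔽₂^ℕ`, `pt` a point of `S` whose maximal ideal contains all
sequences of finite support (so `pt` is not isolated), and `U = D S N` is `S` with the point `pt` doubled
(two copies of `S` glued along `N = S ∖ {pt}`). The group `ℤ/2` acts on `U` by exchanging the two copies,
and `G` is the action groupoid `U ⨿ U ⇉ U`; source and target are finite and étale. The point `x` is one of
the two points over `pt`.

Suppose `V`, `Z`, `ι` are as in the conclusion of S16047. The lifting property says that the image of `ι`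
contains one of the two points over `pt`. As `Z ⟶ S` is locally of finite presentation, and flat because
the local rings of `S` are fields, the image of `ι` is open in `U`. If only one of the two points is in
the image, the first projection of the induced groupoid `R_Z ⟶ Z` is not quasi-compact (`one_false`); if
both are, `Z` is not quasi-separated over `S` (`both_false`), because a punctured neighbourhood of `pt`
is not compact (`not_isCompact_diff`).

The main result is `refuted`, the negation of the frozen statement (in every universe).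
-/

set_option autoImplicit false
universe u
open CategoryTheory CategoryTheory.Limits AlgebraicGeometry TopologicalSpace

namespace Groth.Agent.Refuted.S16047

/-! ### The base: the spectrum of `𝔽₂^ℕ` -/

/-- The Boolean ring of sequences in `𝔽₂`. -/
abbrev A : Type u := ULift.{u} ℕ → ZMod 2

theorem A_mul_self (a : A.{u}) : a * a = a := by
  funext n
  have : ∀ x : ZMod 2, x * x = x := by decide
  exact this (a n)

/-- The ideal of sequences of finite support. -/
def finSupp : Ideal A.{u} where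
  carrier := {f | {n | f n ≠ 0}.Finite}
  add_mem' := by
    intro f g hf hg
    refine (hf.union hg).subset fun n hn => ?_
    by_contra hc
    simp only [Set.mem_union, Set.mem_ofPred_eq, not_or, not_not] at hc
    exact hn (by simp [hc.1, hc.2])
  zero_mem' := by simp
  smul_mem' := by
    intro c f hf
    refine Set.Finite.subset hf fun n hn => ?_
    by_contra hc
    simp only [Set.mem_ofPred_eq, not_not] at hc
    exact hn (by simp [hc])

theorem mem_finSupp {f : A.{u}} : f ∈ finSupp ↔ {n | f n ≠ 0}.Finite := Iff.rfl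

theorem finSupp_ne_top : finSupp.{u} ≠ ⊤ := by
  rw [Ne, Ideal.eq_top_iff_one, mem_finSupp]
  intro h
  have : {n : ULift.{u} ℕ | (1 : A.{u}) n ≠ 0} = Set.univ := by ext n; simp
  rw [this] at h
  exact Set.infinite_univ h

/-- The scheme `S`. -/
noncomputable abbrev S : Scheme.{u} := Spec (CommRingCat.of A.{u})

theorem exists_pt : ∃ x : PrimeSpectrum A.{u}, finSupp ≤ x.asIdeal := by
  obtain ⟨m, hm, hle⟩ := Ideal.exists_le_maximal finSupp finSupp_ne_top
  exact ⟨⟨m, hm.isPrime⟩, hle⟩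

/-- A point at infinity. -/
noncomputable def pt : S.{u} := (exists_pt.choose : PrimeSpectrum A.{u})

theorem finSupp_le_pt : finSupp ≤ (pt : PrimeSpectrum A.{u}).asIdeal := exists_pt.choose_spec

/-- The point of `S` given by evaluation at `n`. -/
noncomputable def ev (n : ULift.{u} ℕ) : PrimeSpectrum A.{u} :=
  haveI : Fact (Nat.Prime 2) := ⟨Nat.prime_two⟩
  ⟨RingHom.ker (Pi.evalRingHom (fun _ : ULift.{u} ℕ => ZMod 2) n), RingHom.ker_isPrime _⟩

theorem mem_ev {n : ULift.{u} ℕ} {f : A.{u}} : f ∈ (ev n).asIdeal ↔ f n = 0 := Iff.rfl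

theorem ev_ne_pt (n : ULift.{u} ℕ) : ev n ≠ (pt : PrimeSpectrum A.{u}) := by
  intro h
  have h1 : (Pi.single n 1 : A.{u}) ∈ finSupp := by
    rw [mem_finSupp]
    refine (Set.finite_singleton n).subset fun k hk => ?_
    by_contra hc
    exact hk (by simp [show k ≠ n from hc])
  have h2 := finSupp_le_pt h1
  rw [← h, mem_ev] at h2
  simp at h2

instance : T2Space S.{u} := by
  refine ⟨fun x y hxy => ?_⟩
  have key : ∀ x y : PrimeSpectrum A.{u}, ∀ f : A.{u}, f ∈ x.asIdeal → f ∉ y.asIdeal →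
      ∃ u v : Set (PrimeSpectrum A.{u}), IsOpen u ∧ IsOpen v ∧ x ∈ u ∧ y ∈ v ∧ Disjoint u v := by
    intro x y f hx hy
    refine ⟨PrimeSpectrum.basicOpen (1 - f), PrimeSpectrum.basicOpen f,
      (PrimeSpectrum.basicOpen (1 - f)).isOpen, (PrimeSpectrum.basicOpen f).isOpen, ?_, hy, ?_⟩
    · intro h
      apply x.isPrime.ne_top
      rw [Ideal.eq_top_iff_one]
      simpa using x.asIdeal.add_mem h hx
    · rw [Set.disjoint_left]
      intro z hz hz'
      have : (1 - f) * f ∈ z.asIdeal := by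
        rw [sub_mul, one_mul, A_mul_self, sub_self]
        exact z.asIdeal.zero_mem
      exact (z.isPrime.mem_or_mem this).elim hz hz'
  have hne : x.asIdeal ≠ y.asIdeal := fun h => hxy (PrimeSpectrum.ext h)
  by_cases h : x.asIdeal ≤ y.asIdeal
  · obtain ⟨f, hf, hf'⟩ := Set.not_subset.1 (fun h' => hne (le_antisymm h h'))
    obtain ⟨u, v, hu, hv, h1, h2, h3⟩ := key y x f hf hf'
    exact ⟨v, u, hv, hu, h2, h1, h3.symm⟩
  · obtain ⟨f, hf, hf'⟩ := Set.not_subset.1 h
    exact key x y f hf hf'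

theorem exists_compact_nhd {O : Set S.{u}} (hO : IsOpen O) (h : pt ∈ O) :
    ∃ f : A, f ∉ (pt : PrimeSpectrum A).asIdeal ∧
      ((PrimeSpectrum.basicOpen f : Set (PrimeSpectrum A)) : Set S) ⊆ O := by
  obtain ⟨K, ⟨f, rfl⟩, hf, hf'⟩ := PrimeSpectrum.isTopologicalBasis_basic_opens.exists_subset_of_mem_open
    (show (pt : PrimeSpectrum A) ∈ (O : Set (PrimeSpectrum A)) from h) hO
  exact ⟨f, hf, hf'⟩

theorem not_isOpen_pt : ¬ IsOpen ({pt} : Set S.{u}) := by
  intro h
  obtain ⟨f, hf, hf'⟩ := exists_compact_nhd h rfl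
  have h1 : f ∉ finSupp := fun h => hf (finSupp_le_pt h)
  rw [mem_finSupp] at h1
  obtain ⟨n, hn⟩ := (Set.not_finite.1 h1 : {n | f n ≠ 0}.Infinite).nonempty
  exact ev_ne_pt n (hf' (show ev n ∈ PrimeSpectrum.basicOpen f from hn))

/-- A punctured neighbourhood of `pt` is not compact. -/
theorem not_isCompact_diff {K : Set S.{u}} (hK : IsOpen K) (h : pt ∈ K) : ¬ IsCompact (K \ {pt}) := by
  intro hc
  have h1 := hc.isClosed
  apply not_isOpen_pt
  have : ({pt} : Set S.{u}) = K ∩ (K \ {pt})ᶜ := by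
    ext z
    simp only [Set.mem_singleton_iff, Set.mem_inter_iff, Set.mem_compl_iff, Set.mem_sdiff, not_and,
      not_not]
    constructor
    · rintro rfl; exact ⟨h, fun _ => rfl⟩
    · rintro ⟨h1, h2⟩; exact h2 h1
  rw [this]
  exact hK.inter h1.isOpen_compl

theorem stalk_isField (x : S.{u}) : IsField (S.presheaf.stalk x) := by
  let k : Algebra A (S.presheaf.stalk x) := StructureSheaf.stalkAlgebra A x
  have hp : (PrimeSpectrum.asIdeal (R := A) x).IsPrime := PrimeSpectrum.isPrime (R := A) x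
  have h1 : IsLocalization.AtPrime (S.presheaf.stalk x) (PrimeSpectrum.asIdeal (R := A) x) :=
    StructureSheaf.IsLocalization.to_stalk A x
  refine ⟨⟨0, 1, zero_ne_one⟩, mul_comm, ?_⟩
  have key : ∀ y : S.presheaf.stalk x, y * y = y := by
    intro y
    obtain ⟨⟨a, b⟩, rfl⟩ := IsLocalization.mk'_surjective (PrimeSpectrum.asIdeal (R := A) x).primeCompl y
    rw [← IsLocalization.mk'_mul, A_mul_self]
    congr 1
    exact Subtype.ext (A_mul_self _)
  intro y hy
  rcases IsLocalRing.isUnit_or_isUnit_one_sub_self y with h | h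
  · exact h.exists_right_inv
  · exfalso
    apply hy
    have : (1 - y) * y = 0 := by rw [sub_mul, one_mul, key, sub_self]
    exact (h.mul_right_eq_zero).1 this

/-- Every morphism to `S` is flat. -/
theorem flat_to {X : Scheme.{u}} (f : X ⟶ S.{u}) : Flat f := by
  refine Flat.of_stalkMap _ fun x => ?_
  let kk : Field (S.presheaf.stalk (f x)) := (stalk_isField (f x)).toField
  let kk' : Algebra (S.presheaf.stalk (f x)) (X.presheaf.stalk x) := (f.stalkMap x).hom.toAlgebra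
  change Module.Flat (S.presheaf.stalk (f x)) (X.presheaf.stalk x)
  infer_instance

/-! ### The groupoid of an involution -/

section

variable {B U : Scheme.{u}} (p : U ⟶ B) (σ : U ⟶ U)

/-- The source map of `U ⨿ U`. -/
noncomputable def sMap (U : Scheme.{u}) : U ⨿ U ⟶ U := coprod.desc (𝟙 U) (𝟙 U)

/-- The target map of `U ⨿ U`. -/
noncomputable def tMap : U ⨿ U ⟶ U := coprod.desc (𝟙 U) σ

/-- The exchange of the two copies. -/
noncomputable def flip (U : Scheme.{u}) : U ⨿ U ⟶ U ⨿ U := coprod.desc coprod.inr coprod.inl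

@[reassoc] theorem inl_s : (coprod.inl : U ⟶ U ⨿ U) ≫ sMap U = 𝟙 U := coprod.inl_desc _ _
@[reassoc] theorem inr_s : (coprod.inr : U ⟶ U ⨿ U) ≫ sMap U = 𝟙 U := coprod.inr_desc _ _
@[reassoc] theorem inl_t : (coprod.inl : U ⟶ U ⨿ U) ≫ tMap σ = 𝟙 U := coprod.inl_desc _ _
@[reassoc] theorem inr_t : (coprod.inr : U ⟶ U ⨿ U) ≫ tMap σ = σ := coprod.inr_desc _ _
@[reassoc] theorem inl_flip : (coprod.inl : U ⟶ U ⨿ U) ≫ flip U = coprod.inr := coprod.inl_desc _ _
@[reassoc] theorem inr_flip : (coprod.inr : U ⟶ U ⨿ U) ≫ flip U = coprod.inl := coprod.inr_desc _ _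

@[reassoc] theorem flip_flip : flip U ≫ flip U = 𝟙 (U ⨿ U) := by
  ext1
  · rw [inl_flip_assoc, inr_flip, Category.comp_id]
  · rw [inr_flip_assoc, inl_flip, Category.comp_id]

@[reassoc] theorem flip_s : flip U ≫ sMap U = sMap U := by
  ext1
  · rw [inl_flip_assoc, inr_s, inl_s]
  · rw [inr_flip_assoc, inl_s, inr_s]

@[reassoc] theorem flip_t (hσ : σ ≫ σ = 𝟙 U) : flip U ≫ tMap σ = tMap σ ≫ σ := by
  ext1
  · rw [inl_flip_assoc, inr_t, inl_t_assoc]
  · rw [inr_flip_assoc, inl_t, inr_t_assoc, hσ]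

/-- A morphism to `U ⨿ U` decomposes its source. -/
theorem isColimit_decomp {T : Scheme.{u}} (α : T ⟶ U ⨿ U) :
    Nonempty (IsColimit (BinaryCofan.mk (pullback.fst α (coprod.inl : U ⟶ U ⨿ U))
      (pullback.fst α (coprod.inr : U ⟶ U ⨿ U)))) := by
  apply nonempty_isColimit_binaryCofanMk_of_isCompl
  rw [Scheme.Hom.opensRange_pullbackFst, Scheme.Hom.opensRange_pullbackFst]
  have h := (isCompl_range_inl_inr U U).map (CompleteLatticeHom.setPreimage α)
  simp only [isCompl_iff, disjoint_iff, codisjoint_iff, ← TopologicalSpace.Opens.coe_inj] at h ⊢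
  exact h

theorem hom_ext_decomp {T X : Scheme.{u}} (α : T ⟶ U ⨿ U) (f g : T ⟶ X)
    (h0 : ∀ (T' : Scheme.{u}) (q : T' ⟶ T) (a : T' ⟶ U), q ≫ α = a ≫ coprod.inl → q ≫ f = q ≫ g)
    (h1 : ∀ (T' : Scheme.{u}) (q : T' ⟶ T) (a : T' ⟶ U), q ≫ α = a ≫ coprod.inr → q ≫ f = q ≫ g) :
    f = g :=
  BinaryCofan.IsColimit.hom_ext (isColimit_decomp α).some
    (h0 _ _ _ pullback.condition) (h1 _ _ _ pullback.condition)

/-- The composition. -/
noncomputable def cMap : pullback (sMap U) (tMap σ) ⟶ U ⨿ U :=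
  (isColimit_decomp (pullback.fst (sMap U) (tMap σ))).some.desc
    (BinaryCofan.mk (pullback.fst _ _ ≫ pullback.snd (sMap U) (tMap σ))
      (pullback.fst _ _ ≫ pullback.snd (sMap U) (tMap σ) ≫ flip U))

theorem cMap_inl {T : Scheme.{u}} (β : T ⟶ pullback (sMap U) (tMap σ)) (a : T ⟶ U)
    (h : β ≫ pullback.fst _ _ = a ≫ coprod.inl) : β ≫ cMap σ = β ≫ pullback.snd _ _ := by
  have h1 := (isColimit_decomp (pullback.fst (sMap U) (tMap σ))).some.fac
    (BinaryCofan.mk (pullback.fst _ _ ≫ pullback.snd (sMap U) (tMap σ))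
      (pullback.fst _ _ ≫ pullback.snd (sMap U) (tMap σ) ≫ flip U)) ⟨WalkingPair.left⟩
  change pullback.fst (pullback.fst (sMap U) (tMap σ)) coprod.inl ≫ cMap σ =
    pullback.fst _ _ ≫ pullback.snd (sMap U) (tMap σ) at h1
  have h2 : pullback.lift β a h ≫ pullback.fst (pullback.fst (sMap U) (tMap σ)) coprod.inl = β :=
    pullback.lift_fst _ _ _
  rw [← h2, Category.assoc, h1, Category.assoc]

theorem cMap_inr {T : Scheme.{u}} (β : T ⟶ pullback (sMap U) (tMap σ)) (a : T ⟶ U)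
    (h : β ≫ pullback.fst _ _ = a ≫ coprod.inr) : β ≫ cMap σ = β ≫ pullback.snd _ _ ≫ flip U := by
  have h1 := (isColimit_decomp (pullback.fst (sMap U) (tMap σ))).some.fac
    (BinaryCofan.mk (pullback.fst _ _ ≫ pullback.snd (sMap U) (tMap σ))
      (pullback.fst _ _ ≫ pullback.snd (sMap U) (tMap σ) ≫ flip U)) ⟨WalkingPair.right⟩
  change pullback.fst (pullback.fst (sMap U) (tMap σ)) coprod.inr ≫ cMap σ =
    pullback.fst _ _ ≫ pullback.snd (sMap U) (tMap σ) ≫ flip U at h1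
  have h2 : pullback.lift β a h ≫ pullback.fst (pullback.fst (sMap U) (tMap σ)) coprod.inr = β :=
    pullback.lift_fst _ _ _
  rw [← h2, Category.assoc, h1, Category.assoc]

variable {σ}

theorem lift_inl {T : Scheme.{u}} (α β : T ⟶ U ⨿ U) (h : α ≫ sMap U = β ≫ tMap σ) {T' : Scheme.{u}}
    (q : T' ⟶ T) (a : T' ⟶ U) (ha : q ≫ α = a ≫ coprod.inl) :
    q ≫ pullback.lift α β h ≫ cMap σ = q ≫ β := by
  rw [← Category.assoc, cMap_inl σ _ a (by rw [Category.assoc, pullback.lift_fst, ha]), Category.assoc,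
    pullback.lift_snd]

theorem lift_inr {T : Scheme.{u}} (α β : T ⟶ U ⨿ U) (h : α ≫ sMap U = β ≫ tMap σ) {T' : Scheme.{u}}
    (q : T' ⟶ T) (a : T' ⟶ U) (ha : q ≫ α = a ≫ coprod.inr) :
    q ≫ pullback.lift α β h ≫ cMap σ = q ≫ β ≫ flip U := by
  rw [← Category.assoc, cMap_inr σ _ a (by rw [Category.assoc, pullback.lift_fst, ha]), Category.assoc,
    pullback.lift_snd_assoc]

theorem mul_s {T : Scheme.{u}} (α β : T ⟶ U ⨿ U) (h : α ≫ sMap U = β ≫ tMap σ) :
    (pullback.lift α β h ≫ cMap σ) ≫ sMap U = β ≫ sMap U := by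
  refine hom_ext_decomp α _ _ (fun T' q a ha => ?_) fun T' q a ha => ?_
  · have := congrArg (· ≫ sMap U) (lift_inl α β h q a ha)
    simpa only [Category.assoc] using this
  · have := congrArg (· ≫ sMap U) (lift_inr α β h q a ha)
    simpa only [Category.assoc, flip_s] using this

variable (hσ : σ ≫ σ = 𝟙 U) (hp : σ ≫ p = p)

include hσ

theorem mul_t {T : Scheme.{u}} (α β : T ⟶ U ⨿ U) (h : α ≫ sMap U = β ≫ tMap σ) :
    (pullback.lift α β h ≫ cMap σ) ≫ tMap σ = α ≫ tMap σ := by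
  refine hom_ext_decomp α _ _ (fun T' q a ha => ?_) fun T' q a ha => ?_
  · have := congrArg (· ≫ tMap σ) (lift_inl α β h q a ha)
    simp only [Category.assoc] at this ⊢
    rw [this, ← h, ← Category.assoc, ← Category.assoc, ha, Category.assoc, Category.assoc, inl_s,
      inl_t]
  · have := congrArg (· ≫ tMap σ) (lift_inr α β h q a ha)
    simp only [Category.assoc, flip_t σ hσ] at this ⊢
    rw [this, ← Category.assoc β, ← h, Category.assoc, ← Category.assoc, ha, Category.assoc,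
      inr_s_assoc, ← Category.assoc q, ha, Category.assoc, inr_t]

theorem mul_assoc' {T : Scheme.{u}} (α β γ : T ⟶ U ⨿ U) (h₁ : α ≫ sMap U = β ≫ tMap σ)
    (h₂ : β ≫ sMap U = γ ≫ tMap σ) :
    pullback.lift (pullback.lift α β h₁ ≫ cMap σ) γ ((mul_s α β h₁).trans h₂) ≫ cMap σ =
      pullback.lift α (pullback.lift β γ h₂ ≫ cMap σ) (h₁.trans (mul_t hσ β γ h₂).symm) ≫ cMap σ := by
  refine hom_ext_decomp α _ _ (fun T' q a ha => ?_) fun T' q a ha => ?_
  · rw [lift_inl α _ _ q a ha]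
    refine hom_ext_decomp (q ≫ β) _ _ (fun T₂ q₂ b hb => ?_) fun T₂ q₂ b hb => ?_
    · have e1 := lift_inl (pullback.lift α β h₁ ≫ cMap σ) γ ((mul_s α β h₁).trans h₂) (q₂ ≫ q) b
        (by rw [Category.assoc, lift_inl α β h₁ q a ha, hb])
      have e2 := lift_inl β γ h₂ (q₂ ≫ q) b (by rw [Category.assoc, hb])
      rw [Category.assoc] at e1 e2
      rw [e1, e2]
    · have e1 := lift_inr (pullback.lift α β h₁ ≫ cMap σ) γ ((mul_s α β h₁).trans h₂) (q₂ ≫ q) b
        (by rw [Category.assoc, lift_inl α β h₁ q a ha, hb])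
      have e2 := lift_inr β γ h₂ (q₂ ≫ q) b (by rw [Category.assoc, hb])
      rw [Category.assoc] at e1 e2
      rw [e1, e2]
  · rw [lift_inr α _ _ q a ha]
    refine hom_ext_decomp (q ≫ β) _ _ (fun T₂ q₂ b hb => ?_) fun T₂ q₂ b hb => ?_
    · have e1 := lift_inr (pullback.lift α β h₁ ≫ cMap σ) γ ((mul_s α β h₁).trans h₂) (q₂ ≫ q) b
        (by rw [Category.assoc, lift_inr α β h₁ q a ha, ← Category.assoc q, ← Category.assoc q₂, hb,
          Category.assoc, inl_flip])
      have e2 := congrArg (· ≫ flip U) (lift_inl β γ h₂ (q₂ ≫ q) b (by rw [Category.assoc, hb]))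
      simp only [Category.assoc] at e1 e2 ⊢
      rw [e1, e2]
    · have e1 := lift_inl (pullback.lift α β h₁ ≫ cMap σ) γ ((mul_s α β h₁).trans h₂) (q₂ ≫ q) b
        (by rw [Category.assoc, lift_inr α β h₁ q a ha, ← Category.assoc q, ← Category.assoc q₂, hb,
          Category.assoc, inr_flip])
      have e2 := congrArg (· ≫ flip U) (lift_inr β γ h₂ (q₂ ≫ q) b (by rw [Category.assoc, hb]))
      simp only [Category.assoc, flip_flip, Category.comp_id] at e1 e2 ⊢
      rw [e1, e2]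

/-- The inverse. -/
noncomputable def iMap (σ : U ⟶ U) : U ⨿ U ⟶ U ⨿ U := coprod.desc coprod.inl (σ ≫ coprod.inr)

omit hσ in
@[reassoc] theorem inl_i : (coprod.inl : U ⟶ U ⨿ U) ≫ iMap σ = coprod.inl := coprod.inl_desc _ _
omit hσ in
@[reassoc] theorem inr_i : (coprod.inr : U ⟶ U ⨿ U) ≫ iMap σ = σ ≫ coprod.inr := coprod.inr_desc _ _

/-- The groupoid of an involution `σ` of `U` over `B`. -/
noncomputable def gpd : Grpd.GroupoidScheme B where
  U := U
  R := U ⨿ U
  pU := p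
  pR := sMap U ≫ p
  s := sMap U
  t := tMap σ
  e := coprod.inl
  i := iMap σ
  c := cMap σ
  s_over := rfl
  t_over := by
    ext1
    · rw [inl_t_assoc, inl_s_assoc]
    · rw [inr_t_assoc, inr_s_assoc, hp]
  comp_s := mul_s
  comp_t := mul_t hσ
  assoc := mul_assoc' hσ
  e_s := inl_s
  e_t := inl_t σ
  comp_e {T} α := by
    refine hom_ext_decomp α _ _ (fun T' q a ha => ?_) fun T' q a ha => ?_
    · rw [lift_inl _ _ _ q a ha, ← Category.assoc, ha, Category.assoc, inl_s_assoc]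
    · rw [lift_inr _ _ _ q a ha, Category.assoc, Category.assoc, inl_flip, ← Category.assoc, ha,
        Category.assoc, inr_s_assoc]
  e_comp {T} α := by
    have := lift_inl (α ≫ tMap σ ≫ coprod.inl) α (by rw [Category.assoc, Category.assoc, inl_s,
      Category.comp_id]) (𝟙 T) (α ≫ tMap σ) (by rw [Category.id_comp, Category.assoc])
    rwa [Category.id_comp, Category.id_comp] at this
  i_s := by
    ext1
    · rw [inl_i_assoc, inl_s, inl_t]
    · rw [inr_i_assoc, inr_s, inr_t, Category.comp_id]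
  i_t := by
    ext1
    · rw [inl_i_assoc, inl_s, inl_t]
    · rw [inr_i_assoc, inr_t, inr_s, hσ]
  comp_i {T} α := by
    refine hom_ext_decomp α _ _ (fun T' q a ha => ?_) fun T' q a ha => ?_
    · rw [lift_inl _ _ _ q a ha, ← Category.assoc, ha, Category.assoc, inl_i, ← Category.assoc q, ha,
        Category.assoc, inl_t_assoc]
    · rw [lift_inr _ _ _ q a ha, Category.assoc, ← Category.assoc, ha, Category.assoc, inr_i_assoc,
        inr_flip, ← Category.assoc q, ha, Category.assoc, inr_t_assoc]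
  i_comp {T} α := by
    refine hom_ext_decomp α _ _ (fun T' q a ha => ?_) fun T' q a ha => ?_
    · rw [lift_inl _ _ _ q a (by rw [← Category.assoc, ha, Category.assoc, inl_i]), ← Category.assoc q,
        ha, Category.assoc, inl_s_assoc]
    · rw [lift_inr _ _ _ q (a ≫ σ) (by rw [← Category.assoc, ha, Category.assoc, inr_i,
        Category.assoc]), ← Category.assoc q, ha, ← Category.assoc q, ha, Category.assoc,
        Category.assoc, inr_s_assoc, inr_flip]

end

theorem coprodDesc_of_local {P : MorphismProperty Scheme.{u}} [IsZariskiLocalAtSource P]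
    {X Y Z : Scheme.{u}} (f : X ⟶ Z) (g : Y ⟶ Z) (hf : P f) (hg : P g) : P (coprod.desc f g) := by
  apply IsZariskiLocalAtSource.of_openCover (coprodOpenCover.{u, 0} X Y)
  rintro (i | i)
  · change P (coprod.inl ≫ coprod.desc f g)
    rwa [coprod.inl_desc]
  · change P (coprod.inr ≫ coprod.desc f g)
    rwa [coprod.inr_desc]

section

variable {U : Scheme.{u}} (σ : U ⟶ U)

set_option backward.isDefEq.respectTransparency.types false in
instance flat_s : Flat (sMap U) := coprodDesc_of_local (P := @Flat) _ _ inferInstance inferInstance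
set_option backward.isDefEq.respectTransparency.types false in
instance lfp_s : LocallyOfFinitePresentation (sMap U) :=
  coprodDesc_of_local (P := @LocallyOfFinitePresentation) _ _ inferInstance inferInstance
instance aff_s : IsAffineHom (sMap U) := inferInstanceAs (IsAffineHom (coprod.desc _ _))
set_option backward.isDefEq.respectTransparency.types false in
instance flat_t [IsIso σ] : Flat (tMap σ) :=
  coprodDesc_of_local (P := @Flat) _ _ inferInstance inferInstance
set_option backward.isDefEq.respectTransparency.types false in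
instance lfp_t [IsIso σ] : LocallyOfFinitePresentation (tMap σ) :=
  coprodDesc_of_local (P := @LocallyOfFinitePresentation) _ _ inferInstance inferInstance
instance aff_t [IsIso σ] : IsAffineHom (tMap σ) := inferInstanceAs (IsAffineHom (coprod.desc _ _))

end

/-! ### Doubling a closed point -/

section

variable (X : Scheme.{u}) (N : X.Opens)

/-- Two copies of `X` glued along the open subset `N`. -/
noncomputable def D : Scheme.{u} := pushout N.ι N.ι

/-- The two copies. -/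
noncomputable def dl : X ⟶ D X N := pushout.inl N.ι N.ι
noncomputable def dr : X ⟶ D X N := pushout.inr N.ι N.ι

instance : IsOpenImmersion (dl X N) := inferInstanceAs (IsOpenImmersion (colimit.ι (span N.ι N.ι) WalkingSpan.left))
instance : IsOpenImmersion (dr X N) := inferInstanceAs (IsOpenImmersion (colimit.ι (span N.ι N.ι) WalkingSpan.right))

theorem ι_dl : N.ι ≫ dl X N = N.ι ≫ dr X N := pushout.condition

/-- The projection. -/
noncomputable def dp : D X N ⟶ X := pushout.desc (𝟙 X) (𝟙 X) rfl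

/-- The exchange. -/
noncomputable def dσ : D X N ⟶ D X N := pushout.desc (dr X N) (dl X N) (ι_dl X N).symm

@[reassoc (attr := simp)] theorem dl_dp : dl X N ≫ dp X N = 𝟙 X := pushout.inl_desc _ _ _
@[reassoc (attr := simp)] theorem dr_dp : dr X N ≫ dp X N = 𝟙 X := pushout.inr_desc _ _ _
@[reassoc (attr := simp)] theorem dl_dσ : dl X N ≫ dσ X N = dr X N := pushout.inl_desc _ _ _
@[reassoc (attr := simp)] theorem dr_dσ : dr X N ≫ dσ X N = dl X N := pushout.inr_desc _ _ _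

theorem D_hom_ext {Y : Scheme.{u}} {f g : D X N ⟶ Y} (hl : dl X N ≫ f = dl X N ≫ g)
    (hr : dr X N ≫ f = dr X N ≫ g) : f = g := pushout.hom_ext hl hr

theorem dσ_dσ : dσ X N ≫ dσ X N = 𝟙 _ := by
  apply D_hom_ext <;> simp

theorem dσ_dp : dσ X N ≫ dp X N = dp X N := by
  apply D_hom_ext <;> simp

instance : IsIso (dσ X N) := ⟨dσ X N, dσ_dσ X N, dσ_dσ X N⟩

theorem D_cases (y : D X N) : (∃ x, dl X N x = y) ∨ ∃ x, dr X N x = y := by
  obtain ⟨i, x, hx⟩ := Scheme.IsLocallyDirected.ι_jointly_surjective (span N.ι N.ι) y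
  match i with
  | WalkingSpan.left => exact Or.inl ⟨x, hx⟩
  | WalkingSpan.right => exact Or.inr ⟨x, hx⟩
  | WalkingSpan.zero =>
    refine Or.inl ⟨N.ι x, ?_⟩
    have : N.ι ≫ dl X N = colimit.ι (span N.ι N.ι) WalkingSpan.zero :=
      colimit.w (span N.ι N.ι) WalkingSpan.Hom.fst
    rw [← hx, ← this]
    rfl

theorem dl_eq_dr {x y : X} (h : dl X N x = dr X N y) : x ∈ N ∧ x = y := by
  have h1 : x = y := by
    have := congrArg (dp X N) h
    rwa [← Scheme.Hom.comp_apply, ← Scheme.Hom.comp_apply, dl_dp, dr_dp] at this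
  refine ⟨?_, h1⟩
  obtain ⟨k, fi, fj, z, h2, h3⟩ := (Scheme.IsLocallyDirected.ι_eq_ι_iff (span N.ι N.ι)
    (i := WalkingSpan.left) (j := WalkingSpan.right) (xi := x) (xj := y)).1 h
  match k, fi, fj with
  | WalkingSpan.zero, WalkingSpan.Hom.fst, WalkingSpan.Hom.snd =>
    change N.ι z = x at h2
    rw [← h2]
    exact z.2

theorem dl_of_mem {x : X} (hx : x ∈ N) : dl X N x = dr X N x := by
  have := congrArg (fun f => f.base ⟨x, hx⟩) (ι_dl X N)
  exact this

set_option backward.isDefEq.respectTransparency.types false in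
instance lfp_dp : LocallyOfFinitePresentation (dp X N) := by
  apply IsZariskiLocalAtSource.of_openCover (P := @LocallyOfFinitePresentation)
    (Scheme.IsLocallyDirected.openCover (span N.ι N.ι))
  intro i
  match i with
  | WalkingSpan.left =>
    change LocallyOfFinitePresentation (dl X N ≫ dp X N)
    rw [dl_dp]
    infer_instance
  | WalkingSpan.right =>
    change LocallyOfFinitePresentation (dr X N ≫ dp X N)
    rw [dr_dp]
    infer_instance
  | WalkingSpan.zero =>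
    have : N.ι ≫ dl X N = colimit.ι (span N.ι N.ι) WalkingSpan.zero :=
      colimit.w (span N.ι N.ι) WalkingSpan.Hom.fst
    change LocallyOfFinitePresentation (colimit.ι (span N.ι N.ι) WalkingSpan.zero ≫ dp X N)
    rw [← this]
    change LocallyOfFinitePresentation ((N.ι ≫ dl X N) ≫ dp X N)
    rw [Category.assoc, dl_dp]
    infer_instance

end

/-! ### The counterexample -/

/-- The complement of the point at infinity. -/
noncomputable def N : S.{u}.Opens := ⟨{pt}ᶜ, isClosed_singleton.isOpen_compl⟩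

theorem mem_N {y : S.{u}} : y ∈ N ↔ y ≠ pt := Iff.rfl

theorem D_eq (y : D S.{u} N) : dl S.{u} N (dp S.{u} N y) = y ∨ dr S.{u} N (dp S.{u} N y) = y := by
  rcases D_cases S N y with ⟨z, rfl⟩ | ⟨z, rfl⟩
  · left
    rw [← Scheme.Hom.comp_apply (dl S.{u} N) (dp S.{u} N), dl_dp]
    rfl
  · right
    rw [← Scheme.Hom.comp_apply (dr S.{u} N) (dp S.{u} N), dr_dp]
    rfl

theorem dp_dl (z : S.{u}) : dp S.{u} N (dl S.{u} N z) = z := by
  rw [← Scheme.Hom.comp_apply, dl_dp]; rfl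

theorem dp_dr (z : S.{u}) : dp S.{u} N (dr S.{u} N z) = z := by
  rw [← Scheme.Hom.comp_apply, dr_dp]; rfl

theorem dl_pt_ne (z : S.{u}) : dl S.{u} N pt ≠ dr S.{u} N z := fun h => (dl_eq_dr S N h).1 rfl

/-- The groupoid of the exchange of the two points at infinity. -/
noncomputable def G : Grpd.GroupoidScheme S.{u} := gpd (dp S.{u} N) (dσ_dσ S N) (dσ_dp S N)

/-- The exchange is the identity over `N`. -/
theorem comp_dσ {T : Scheme.{u}} (v : T ⟶ D S.{u} N) (hv : ∀ x, dp S.{u} N (v x) ∈ N) : v ≫ dσ S.{u} N = v := by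
  have h1 : Set.range v ⊆ Set.range (N.ι ≫ dl S.{u} N) := by
    rintro _ ⟨x, rfl⟩
    refine ⟨⟨dp S.{u} N (v x), hv x⟩, ?_⟩
    change dl S.{u} N (dp S.{u} N (v x)) = v x
    rcases D_eq (v x) with h | h
    · exact h
    · rw [dl_of_mem S N (hv x), h]
  obtain ⟨w, rfl⟩ : ∃ w, w ≫ N.ι ≫ dl S.{u} N = v :=
    ⟨_, IsOpenImmersion.lift_fac (N.ι ≫ dl S.{u} N) v h1⟩
  rw [Category.assoc, Category.assoc, dl_dσ, ι_dl]

/-- The arrows of the induced groupoid. -/
noncomputable abbrev RZ {Z : Scheme.{u}} (ι : Z ⟶ G.U) : Scheme.{u} :=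
  pullback (pullback.map (ι ≫ G.pU) (ι ≫ G.pU) G.pU G.pU ι ι (𝟙 S) (Category.comp_id _)
    (Category.comp_id _)) G.j

section

variable {Z : Scheme.{u}} (ι : Z ⟶ G.U)

/-- The first projection of the induced groupoid. -/
noncomputable abbrev p1 : RZ ι ⟶ Z :=
  pullback.fst (pullback.map (ι ≫ G.pU) (ι ≫ G.pU) G.pU G.pU ι ι (𝟙 S) (Category.comp_id _)
    (Category.comp_id _)) G.j ≫ pullback.fst (ι ≫ G.pU) (ι ≫ G.pU)

/-- The second projection of the induced groupoid. -/
noncomputable abbrev p2 : RZ ι ⟶ Z :=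
  pullback.fst (pullback.map (ι ≫ G.pU) (ι ≫ G.pU) G.pU G.pU ι ι (𝟙 S) (Category.comp_id _)
    (Category.comp_id _)) G.j ≫ pullback.snd (ι ≫ G.pU) (ι ≫ G.pU)

/-- The underlying arrow of `U`. -/
noncomputable abbrev q : RZ ι ⟶ G.R := pullback.snd _ _

theorem q_t : q ι ≫ G.t = p1 ι ≫ ι := by
  have h := congrArg (· ≫ pullback.fst G.pU G.pU) (pullback.condition
    (f := pullback.map (ι ≫ G.pU) (ι ≫ G.pU) G.pU G.pU ι ι (𝟙 S) (Category.comp_id _)
    (Category.comp_id _)) (g := G.j))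
  simp only [Category.assoc, Grpd.GroupoidScheme.j, pullback.lift_fst, pullback.map] at h
  simp only [Category.assoc]
  exact h.symm

theorem q_s : q ι ≫ G.s = p2 ι ≫ ι := by
  have h := congrArg (· ≫ pullback.snd G.pU G.pU) (pullback.condition
    (f := pullback.map (ι ≫ G.pU) (ι ≫ G.pU) G.pU G.pU ι ι (𝟙 S) (Category.comp_id _)
    (Category.comp_id _)) (g := G.j))
  simp only [Category.assoc, Grpd.GroupoidScheme.j, pullback.lift_snd, pullback.map] at h
  simp only [Category.assoc]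
  exact h.symm

theorem exists_lift {T : Scheme.{u}} (z₁ z₂ : T ⟶ Z) (r : T ⟶ G.R) (ht : r ≫ G.t = z₁ ≫ ι)
    (hs : r ≫ G.s = z₂ ≫ ι) : ∃ k : T ⟶ RZ ι, k ≫ p1 ι = z₁ ∧ k ≫ q ι = r := by
  have h0 : z₁ ≫ ι ≫ G.pU = z₂ ≫ ι ≫ G.pU := by
    rw [← Category.assoc, ← Category.assoc, ← ht, ← hs, Category.assoc, Category.assoc, G.s_over,
      G.t_over]
  refine ⟨pullback.lift (pullback.lift z₁ z₂ h0) r ?_, ?_, ?_⟩
  · apply pullback.hom_ext
    · simp only [Category.assoc, Grpd.GroupoidScheme.j, pullback.lift_fst, pullback.map,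
        pullback.lift_fst_assoc]
      exact ht.symm
    · simp only [Category.assoc, Grpd.GroupoidScheme.j, pullback.lift_snd, pullback.map,
        pullback.lift_snd_assoc]
      exact hs.symm
  · rw [pullback.lift_fst_assoc, pullback.lift_fst]
  · exact pullback.lift_snd _ _ _

theorem t_q (y : RZ ι) : G.t (q ι y) = ι (p1 ι y) := by
  rw [← Scheme.Hom.comp_apply, ← Scheme.Hom.comp_apply, q_t]

theorem s_q (y : RZ ι) : G.s (q ι y) = ι (p2 ι y) := by
  rw [← Scheme.Hom.comp_apply, ← Scheme.Hom.comp_apply, q_s]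

end

/-- The second copy of `U` in the scheme of arrows. -/
noncomputable def rr : G.{u}.U ⟶ G.{u}.R := (coprod.inr : D S.{u} N ⟶ D S.{u} N ⨿ D S.{u} N)

theorem rr_t : rr.{u} ≫ G.t = (dσ S.{u} N : G.U ⟶ G.U) := inr_t _

theorem rr_s : rr.{u} ≫ G.s = 𝟙 G.U := inr_s

theorem isClosed_range_rr : IsClosed (Set.range rr.{u}) := by
  have : IsClosed (Set.range (coprod.inr : D S.{u} N ⟶ D S.{u} N ⨿ D S.{u} N)) := by
    rw [← (isCompl_range_inl_inr (D S.{u} N) (D S.{u} N)).compl_eq]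
    exact (coprod.inl : D S.{u} N ⟶ D S.{u} N ⨿ D S.{u} N).isOpenEmbedding.isOpen_range.isClosed_compl
  exact this

/-- The points of the induced groupoid given by the exchange over `N`. -/
theorem exists_point {Z : Scheme.{u}} (ι : Z ⟶ G.U) (z : Z) (hz : dp S.{u} N (ι z) ∈ N) :
    ∃ p : RZ ι, p1 ι p = z ∧ q ι p = rr (ι z) := by
  let O : Z.Opens := (ι ≫ dp S.{u} N) ⁻¹ᵁ N
  obtain ⟨g, hg1, hg2⟩ := exists_lift ι O.ι O.ι ((O.ι ≫ ι) ≫ rr)
    (by
      rw [Category.assoc, rr_t]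
      exact comp_dσ _ fun x => x.2)
    (by rw [Category.assoc, rr_s, Category.comp_id])
  have hzO : z ∈ O := hz
  refine ⟨g ⟨z, hzO⟩, ?_, ?_⟩
  · exact congrArg (fun φ : (O : Scheme.{u}) ⟶ Z => φ.base ⟨z, hzO⟩) hg1
  · exact congrArg (fun φ : (O : Scheme.{u}) ⟶ G.R => φ.base ⟨z, hzO⟩) hg2

/-- The image of an immersion which is locally of finite presentation over `S` is open. -/
theorem isOpen_range {Z : Scheme.{u}} (ι : Z ⟶ D S.{u} N)
    (hlfp : LocallyOfFinitePresentation (ι ≫ dp S.{u} N)) : IsOpen (Set.range ι) := by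
  have h1 : Flat (ι ≫ dp S.{u} N) := flat_to _
  have h2 : IsOpenMap (ι ≫ dp S.{u} N) := (ι ≫ dp S.{u} N).isOpenMap
  have key : ∀ (a : S ⟶ D S.{u} N) [IsOpenImmersion a], (∀ z, dp S.{u} N (a z) = z) →
      IsOpen (Set.range ι ∩ Set.range a) := by
    intro a _ ha
    have : Set.range ι ∩ Set.range a = a '' ((ι ≫ dp S.{u} N) '' (ι ⁻¹' Set.range a)) := by
      ext y
      constructor
      · rintro ⟨⟨z, rfl⟩, ⟨w, hw⟩⟩
        refine ⟨w, ⟨z, ⟨w, hw⟩, ?_⟩, hw⟩
        rw [Scheme.Hom.comp_apply, ← hw, ha]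
      · rintro ⟨_, ⟨z, ⟨w, hw⟩, rfl⟩, rfl⟩
        refine ⟨⟨z, ?_⟩, ⟨_, rfl⟩⟩
        rw [Scheme.Hom.comp_apply, ← hw, ha]
    rw [this]
    exact a.isOpenEmbedding.isOpenMap _ (h2 _ (a.isOpenEmbedding.isOpen_range.preimage ι.continuous))
  have h3 : Set.range ι = (Set.range ι ∩ Set.range (dl S.{u} N)) ∪ (Set.range ι ∩ Set.range (dr S.{u} N)) := by
    rw [← Set.inter_union_distrib_left, eq_comm, Set.inter_eq_left]
    intro y _
    exact D_cases S N y
  rw [h3]
  exact (key _ dp_dl).union (key _ dp_dr)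

/-- If exactly one of the points at infinity is in the image of `ι` then the first projection of the
induced groupoid is not quasi-compact. -/
theorem one_false {Z : Scheme.{u}} (ι : Z ⟶ G.U) (hemb : Topology.IsEmbedding ι)
    (ho : IsOpen (Set.range ι)) (hq : QuasiCompact (p1 ι)) (a b : S ⟶ D S.{u} N) [IsOpenImmersion a]
    (ha : ∀ z, dp S.{u} N (a z) = z) (hab : ∀ y, dσ S.{u} N y = a pt → y = b pt)
    (h1 : a pt ∈ Set.range ι) (h2 : b pt ∉ Set.range ι) : False := by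
  obtain ⟨f, hf, hf'⟩ := exists_compact_nhd (ho.preimage a.continuous) h1
  set K : Set S := ((PrimeSpectrum.basicOpen f : Set (PrimeSpectrum A)) : Set S) with hK
  have hKc : IsCompact K := PrimeSpectrum.isCompact_basicOpen f
  have hKo : IsOpen K := (PrimeSpectrum.basicOpen f).isOpen
  have hsub : a '' K ⊆ Set.range ι := by
    rintro _ ⟨k, hk, rfl⟩; exact hf' hk
  have c1 : IsCompact (ι ⁻¹' (a '' K)) :=
    hemb.isInducing.isCompact_preimage' (hKc.image a.continuous) hsub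
  have o1 : IsOpen (ι ⁻¹' (a '' K)) := (a.isOpenEmbedding.isOpenMap _ hKo).preimage ι.continuous
  have c2 : IsCompact (p1 ι ⁻¹' (ι ⁻¹' (a '' K))) := QuasiCompact.isCompact_preimage _ o1 c1
  have c3 := c2.image (q ι).continuous
  have c4 := (c3.inter_right isClosed_range_rr).image G.t.continuous
  have heq : G.t '' (q ι '' (p1 ι ⁻¹' (ι ⁻¹' (a '' K))) ∩ Set.range rr) = a '' (K \ {pt}) := by
    ext y
    constructor
    · rintro ⟨_, ⟨⟨p, ⟨k, hk, hk'⟩, rfl⟩, ⟨w, hw⟩⟩, rfl⟩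
      rw [t_q, ← hk']
      refine ⟨k, ⟨hk, ?_⟩, rfl⟩
      rintro rfl
      apply h2
      have e1 : G.t (q ι p) = dσ S.{u} N w := by
        rw [← hw, ← Scheme.Hom.comp_apply, rr_t]
        rfl
      have e2 : G.s (q ι p) = w := by
        rw [← hw, ← Scheme.Hom.comp_apply, rr_s]
        rfl
      rw [t_q, ← hk'] at e1
      rw [s_q] at e2
      exact ⟨p2 ι p, e2.trans (hab w e1.symm)⟩
    · rintro ⟨k, ⟨hk, hk'⟩, rfl⟩
      obtain ⟨z, hz⟩ := hsub ⟨k, hk, rfl⟩
      obtain ⟨p, hp1, hp2⟩ := exists_point ι z (by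
        rw [hz, ha]
        exact hk')
      refine ⟨q ι p, ⟨⟨p, ?_, rfl⟩, ⟨ι z, hp2.symm⟩⟩, ?_⟩
      · change ι (p1 ι p) ∈ a '' K
        rw [hp1, hz]
        exact ⟨k, hk, rfl⟩
      · rw [t_q, hp1, hz]
  have c5 : IsCompact (a '' (K \ {pt})) := heq ▸ c4
  rw [← a.isOpenEmbedding.isInducing.isCompact_iff] at c5
  exact not_isCompact_diff hKo hf c5

/-- If both points at infinity are in the image of `ι` then `Z` is not quasi-separated over `S`. -/
theorem both_false {Z : Scheme.{u}} (ι : Z ⟶ D S.{u} N) (hemb : Topology.IsEmbedding ι)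
    (ho : IsOpen (Set.range ι)) (hq : QuasiSeparated (ι ≫ dp S.{u} N))
    (h1 : dl S.{u} N pt ∈ Set.range ι) (h2 : dr S.{u} N pt ∈ Set.range ι) : False := by
  have hZ : QuasiSeparatedSpace Z := quasiSeparatedSpace_of_quasiSeparated (ι ≫ dp S.{u} N)
  obtain ⟨f₁, hf₁, hf₁'⟩ := exists_compact_nhd (ho.preimage (dl S.{u} N).continuous) h1
  obtain ⟨f₂, hf₂, hf₂'⟩ := exists_compact_nhd (ho.preimage (dr S.{u} N).continuous) h2
  set K₁ : Set S := ((PrimeSpectrum.basicOpen f₁ : Set (PrimeSpectrum A)) : Set S)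
  set K₂ : Set S := ((PrimeSpectrum.basicOpen f₂ : Set (PrimeSpectrum A)) : Set S)
  have hK₁c : IsCompact K₁ := PrimeSpectrum.isCompact_basicOpen f₁
  have hK₁o : IsOpen K₁ := (PrimeSpectrum.basicOpen f₁).isOpen
  have hK₂c : IsCompact K₂ := PrimeSpectrum.isCompact_basicOpen f₂
  have hK₂o : IsOpen K₂ := (PrimeSpectrum.basicOpen f₂).isOpen
  have s1 : dl S.{u} N '' K₁ ⊆ Set.range ι := by
    rintro _ ⟨k, hk, rfl⟩; exact hf₁' hk
  have s2 : dr S.{u} N '' K₂ ⊆ Set.range ι := by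
    rintro _ ⟨k, hk, rfl⟩; exact hf₂' hk
  have c1 : IsCompact (ι ⁻¹' (dl S.{u} N '' K₁)) :=
    hemb.isInducing.isCompact_preimage' (hK₁c.image (dl S.{u} N).continuous) s1
  have c2 : IsCompact (ι ⁻¹' (dr S.{u} N '' K₂)) :=
    hemb.isInducing.isCompact_preimage' (hK₂c.image (dr S.{u} N).continuous) s2
  have o1 : IsOpen (ι ⁻¹' (dl S.{u} N '' K₁)) :=
    ((dl S.{u} N).isOpenEmbedding.isOpenMap _ hK₁o).preimage ι.continuous
  have o2 : IsOpen (ι ⁻¹' (dr S.{u} N '' K₂)) :=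
    ((dr S.{u} N).isOpenEmbedding.isOpenMap _ hK₂o).preimage ι.continuous
  have c3 := (QuasiSeparatedSpace.inter_isCompact _ _ o1 c1 o2 c2).image (ι ≫ dp S.{u} N).continuous
  have heq : (ι ≫ dp S.{u} N) '' (ι ⁻¹' (dl S.{u} N '' K₁) ∩ ι ⁻¹' (dr S.{u} N '' K₂)) = (K₁ ∩ K₂) \ {pt} := by
    ext y
    constructor
    · rintro ⟨z, ⟨⟨k₁, hk₁, e₁⟩, ⟨k₂, hk₂, e₂⟩⟩, rfl⟩
      obtain ⟨e3, rfl⟩ := dl_eq_dr S N (e₁.trans e₂.symm)
      rw [Scheme.Hom.comp_apply, ← e₁, dp_dl]
      exact ⟨⟨hk₁, hk₂⟩, e3⟩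
    · rintro ⟨⟨hy₁, hy₂⟩, hy⟩
      obtain ⟨z, hz⟩ := s1 ⟨y, hy₁, rfl⟩
      refine ⟨z, ⟨⟨y, hy₁, hz.symm⟩, ⟨y, hy₂, ?_⟩⟩, ?_⟩
      · rw [hz, dl_of_mem S N (mem_N.2 hy)]
      · rw [Scheme.Hom.comp_apply, hz, dp_dl]
  rw [heq] at c3
  exact not_isCompact_diff (hK₁o.inter hK₂o) ⟨hf₁, hf₂⟩ c3

instance : Flat G.{u}.s := flat_s
instance : LocallyOfFinitePresentation G.{u}.s := lfp_s
instance : IsAffineHom G.{u}.s := aff_s
instance : Flat G.{u}.t := flat_t (dσ S.{u} N)
instance : LocallyOfFinitePresentation G.{u}.t := lfp_t (dσ S.{u} N)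
instance : IsAffineHom G.{u}.t := aff_t (dσ S.{u} N)
instance : LocallyOfFinitePresentation G.{u}.pU := lfp_dp S N
instance : LocallyOfFinitePresentation G.{u}.pR :=
  inferInstanceAs (LocallyOfFinitePresentation (sMap (D S.{u} N) ≫ dp S.{u} N))

theorem closure_pt : closure ({dl S.{u} N pt} : Set (D S.{u} N)) ∩ dp S.{u} N ⁻¹' {dp S.{u} N (dl S.{u} N pt)} =
    {dl S.{u} N pt} := by
  ext y
  constructor
  · rintro ⟨h1, h2⟩
    rw [dp_dl] at h2
    rcases D_cases S N y with ⟨z, rfl⟩ | ⟨z, rfl⟩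
    · have : z = pt := by
        have h3 : dp S.{u} N (dl S.{u} N z) = pt := h2
        rwa [dp_dl] at h3
      rw [this]
      rfl
    · exfalso
      obtain ⟨_, ⟨w, rfl⟩, hw⟩ := mem_closure_iff.1 h1 _ (dr S.{u} N).isOpenEmbedding.isOpen_range ⟨z, rfl⟩
      exact dl_pt_ne w hw.symm
  · rintro rfl
    exact ⟨subset_closure rfl, rfl⟩

/-- **S16047 is false**: the negation of the frozen statement (in every universe). -/
theorem refuted : ¬ (∀
    {S : Scheme.{u}} (G : Grpd.GroupoidScheme S)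
    [LocallyOfFiniteType G.pU] [LocallyOfFiniteType G.pR]
    [Flat G.s] [LocallyOfFinitePresentation G.s] [QuasiCompact G.s] [QuasiSeparated G.s]
    [Flat G.t] [LocallyOfFinitePresentation G.t] [QuasiCompact G.t] [QuasiSeparated G.t]
    (x : ↥G.U) (hx : closure ({x} : Set ↥G.U) ∩ G.pU ⁻¹' {G.pU x} = {x}),
    ∃ (V : G.U.Opens) (hsat : G.s ⁻¹ᵁ V = G.t ⁻¹ᵁ V) (Z : Scheme.{u}) (ι : Z ⟶ G.U) (ιV : Z ⟶ (V : Scheme.{u})),
      x ∈ V ∧ IsImmersion ι ∧ ιV ≫ V.ι = ι ∧
      (Flat (pullback.fst (pullback.map (ι ≫ G.pU) (ι ≫ G.pU) G.pU G.pU ι ι (𝟙 S) (Category.comp_id _) (Category.comp_id _)) G.j ≫ pullback.fst (ι ≫ G.pU) (ι ≫ G.pU)) ∧ LocallyOfFinitePresentation (pullback.fst (pullback.map (ι ≫ G.pU) (ι ≫ G.pU) G.pU G.pU ι ι (𝟙 S) (Category.comp_id _) (Category.comp_id _)) G.j ≫ pullback.fst (ι ≫ G.pU) (ι ≫ G.pU)) ∧ QuasiCompact (pullback.fst (pullback.map (ι ≫ G.pU) (ι ≫ G.pU) G.pU G.pU ι ι (𝟙 S) (Category.comp_id _) (Category.comp_id _)) G.j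 ≫ pullback.fst (ι ≫ G.pU) (ι ≫ G.pU)) ∧ QuasiSeparated (pullback.fst (pullback.map (ι ≫ G.pU) (ι ≫ G.pU) G.pU G.pU ι ι (𝟙 S) (Category.comp_id _) (Category.comp_id _)) G.j ≫ pullback.fst (ι ≫ G.pU) (ι ≫ G.pU)) ∧
       Flat (pullback.fst (pullback.map (ι ≫ G.pU) (ι ≫ G.pU) G.pU G.pU ι ι (𝟙 S) (Category.comp_id _) (Category.comp_id _)) G.j ≫ pullback.snd (ι ≫ G.pU) (ι ≫ G.pU)) ∧ LocallyOfFinitePresentation (pullback.fst (pullback.map (ι ≫ G.pU) (ι ≫ G.pU) G.pU G.pU ι ι (𝟙 S) (Category.comp_id _) (Category.comp_id _)) G.j ≫ pullback.snd (ι ≫ G.pU) (ι ≫ G.pU)) ∧ QuasiCompact (pullback.fst (pullback.map (ι ≫ G.pU) (ι ≫ G.pU) G.pU G.pU ι ι (𝟙 S) (Category.comp_id _) (Category.comp_id _)) G.j ≫ pullback.snd (ι ≫ G.pU) (ι ≫ G.pU)) ∧ QuasiSeparated (pullback.fst (pullback.map (ι ≫ G.pU) (ι ≫ G.pU) G.pU G.pU ι ι (𝟙 S) (Category.comp_id _) (Category.comp_id _)) G.j ≫ pullback.snd (ι ≫ G.pU) (ι ≫ G.pU))) ∧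
      (∃ (wR : (Scheme.forgetToLocallyRingedSpace ⋙ LocallyRingedSpace.forgetToSheafedSpace).map (pullback.fst (pullback.map (ι ≫ G.pU) (ι ≫ G.pU) G.pU G.pU ι ι (𝟙 S) (Category.comp_id _) (Category.comp_id _)) G.j ≫ pullback.fst (ι ≫ G.pU) (ι ≫ G.pU)) ≫ ((Scheme.forgetToLocallyRingedSpace ⋙ LocallyRingedSpace.forgetToSheafedSpace).map ιV ≫ coequalizer.π ((Scheme.forgetToLocallyRingedSpace ⋙ LocallyRingedSpace.forgetToSheafedSpace).map (G.s ∣_ V)) ((Scheme.forgetToLocallyRingedSpace ⋙ LocallyRingedSpace.forgetToSheafedSpace).map ((G.R.isoOfEq hsat).hom ≫ (G.t ∣_ V)))) = (Scheme.forgetToLocallyRingedSpace ⋙ LocallyRingedSpace.forgetToSheafedSpace).map (pullback.fst (pullback.map (ι ≫ G.pU) (ι ≫ G.pU) G.pU G.pU ι ι (𝟙 S) (Category.comp_id _) (Category.comp_id _)) G.j ≫ pullback.snd (ι ≫ G.pU) (ι ≫ G.pU)) ≫ ((Scheme.forgetToLocallyRingedSpace ⋙ LocallyRingedSpace.forgetToSheafedSpace).map ιV ≫ coequalizer.π ((Scheme.forgetToLocallyRingedSpace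 ⋙ LocallyRingedSpace.forgetToSheafedSpace).map (G.s ∣_ V)) ((Scheme.forgetToLocallyRingedSpace ⋙ LocallyRingedSpace.forgetToSheafedSpace).map ((G.R.isoOfEq hsat).hom ≫ (G.t ∣_ V))))),
         Nonempty (IsColimit (Cofork.ofπ ((Scheme.forgetToLocallyRingedSpace ⋙ LocallyRingedSpace.forgetToSheafedSpace).map ιV ≫ coequalizer.π ((Scheme.forgetToLocallyRingedSpace ⋙ LocallyRingedSpace.forgetToSheafedSpace).map (G.s ∣_ V)) ((Scheme.forgetToLocallyRingedSpace ⋙ LocallyRingedSpace.forgetToSheafedSpace).map ((G.R.isoOfEq hsat).hom ≫ (G.t ∣_ V)))) wR))) ∧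
      (∀ (T : Scheme.{u}) (v : T ⟶ G.U), Set.range ⇑v ⊆ (V : Set ↥G.U) →
         ∃ (T' : Scheme.{u}) (c : T' ⟶ T) (r : T' ⟶ G.R) (z : T' ⟶ Z),
           Flat c ∧ LocallyOfFinitePresentation c ∧ Surjective c ∧ r ≫ G.t = c ≫ v ∧ z ≫ ι = r ≫ G.s) ∧
      {z : ↥Z | ∃ r : ↥G.R, G.s r = x ∧ G.t r = ι z}.Finite ∧
      (LocallyOfFinitePresentation G.pU → LocallyOfFinitePresentation (ι ≫ G.pU) ∧ QuasiSeparated (ι ≫ G.pU) ∧
        (QuasiSeparatedSpace ↥S → QuasiCompact (ι ≫ G.pU)))) := by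
  intro H
  obtain ⟨V, hsat, Z, ι, ιV, hxV, himm, -, ⟨-, -, hqc, -, -⟩, -, hlift, -, hfin⟩ :=
    H G (dl S.{u} N pt : D S.{u} N) closure_pt
  obtain ⟨hlfp, hqs, -⟩ := hfin inferInstance
  have ho : IsOpen (Set.range ι) := isOpen_range ι hlfp
  have hemb : Topology.IsEmbedding ι := ι.isEmbedding
  obtain ⟨T', c, r, z, -, -, hc, h1, h2⟩ := hlift V V.ι (by rw [Scheme.Opens.range_ι])
  obtain ⟨t', ht'⟩ := c.surjective ⟨_, hxV⟩
  have e1 : G.t (r t') = (dl S.{u} N pt : D S.{u} N) := by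
    rw [← Scheme.Hom.comp_apply, h1, Scheme.Hom.comp_apply, ht']
    rfl
  have e2 : ι (z t') = G.s (r t') := by
    rw [← Scheme.Hom.comp_apply, ← Scheme.Hom.comp_apply, h2]
  have e3 : dp S.{u} N (G.s (r t')) = pt := by
    have h3 : G.pU (G.s (r t')) = G.pU (G.t (r t')) :=
      congrArg (fun φ : G.R ⟶ S => φ.base (r t')) (G.s_over.trans G.t_over.symm)
    rw [e1] at h3
    exact h3.trans (dp_dl _)
  have h4 : dl S.{u} N pt ∈ Set.range ι ∨ dr S.{u} N pt ∈ Set.range ι := by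
    rcases D_eq (G.s (r t')) with h | h
    · rw [e3] at h
      exact Or.inl ⟨z t', e2.trans h.symm⟩
    · rw [e3] at h
      exact Or.inr ⟨z t', e2.trans h.symm⟩
  have hdσ : ∀ y : D S.{u} N, dσ S.{u} N (dσ S.{u} N y) = y := fun y => by
    rw [← Scheme.Hom.comp_apply, dσ_dσ]
    rfl
  have hl : ∀ y, dσ S.{u} N y = dl S.{u} N pt → y = dr S.{u} N pt := fun y hy => by
    rw [← hdσ y, hy, ← Scheme.Hom.comp_apply, dl_dσ]
  have hr : ∀ y, dσ S.{u} N y = dr S.{u} N pt → y = dl S.{u} N pt := fun y hy => by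
    rw [← hdσ y, hy, ← Scheme.Hom.comp_apply, dr_dσ]
  by_cases hdl : dl S.{u} N pt ∈ Set.range ι
  · by_cases hdr : dr S.{u} N pt ∈ Set.range ι
    · exact both_false ι hemb ho hqs hdl hdr
    · exact one_false ι hemb ho hqc (dl S.{u} N) (dr S.{u} N) dp_dl hl hdl hdr
  · exact one_false ι hemb ho hqc (dr S.{u} N) (dl S.{u} N) dp_dr hr (h4.resolve_left hdl) hdl

end Groth.Agent.Refuted.S16047
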