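import Groth.Agent.FSch.K573.Assemble
import Groth.Agent.Refuted.K306.CocExt
import Groth.Agent.Refuted.K473.PowSer
import Groth.Agent.Refuted.K471.TwoPt
import Groth.Agent.S3854

/-!
# S17024 is false as written: Lean refutation

The row says that on a locally Noetherian formal scheme `𝔛` the modules which are small filtered colimits of
coherent modules satisfy the five-term condition; in particular they would be closed under extensions.  This
fails when `𝔛` is not quasi-compact.  (`Groth/Agent/Restated/S17024.lean` proves the row with `CompactSpace (𝔛.X 0)`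
added.)

Counterexample (found by helper180, departures/helper180.md; formalised by helper306: `K306`, helper471: `K471`,
helper473: `K473`, helper573: `K573` and this file).
`A` a discrete valuation ring with fraction field `K` and uniformiser `ϖ`; `Y` the scheme obtained by glueing
countably many copies of `Spec A[t]` along `Spec K[t]`; `𝔛` its completion along `t = 0`.  The space of `𝔛` is
`{η, p 0, p 1, …}`, with minimal opens `U = {η}`, `V i = {η, p i}`, and `O_𝔛(U) = K⟦t⟧`, `O_𝔛(V i) = A⟦t⟧`.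
The element `σ = ∑ ϖ^(-n²) tⁿ` of `K⟦t⟧` satisfies: if `a ∈ A⟦t⟧` and `a σ ∈ A⟦t⟧`, then `a = 0` (`K306.EssSing`).
Glue an extension `0 ⟶ ⨁ i, O_𝔛 ⟶ G ⟶ O_𝔛 ⟶ 0` with sections `s i ∈ G(V i)` which lift `1` and satisfy
`s i = v + ιᵢ σ` over `U` (`K306.CocExt`).  Then `G` is not a filtered colimit of coherent modules
(`K573.NotInd`): let `C ⟶ G` be a map from a coherent module which hits `s 0`.  `C(U)` is generated by finitely
many sections over `V 0`, so for all `i` outside a finite set every section in its image is `b • v + x` where the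
`i`-th coordinate of `x` is zero; on the other hand one of the generators of `C(V i)` is mapped to `h • s i + y` with
`h ≠ 0` and `y` a section of `⨁ O_𝔛` over `V i`, and comparison of the `i`-th coordinates over `U` gives
`h σ ∈ A⟦t⟧`.
-/

set_option autoImplicit false
universe u

open CategoryTheory CategoryTheory.Limits Opposite TopologicalSpace AlgebraicGeometry

namespace Groth.Agent.Refuted.S17024

open K29.RSec Groth.Agent.Refuted.K471.Glue Groth.Agent.Refuted.K471.Rings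

/-- The refutation for a discrete valuation ring with its fraction field. -/
theorem not_stmt_of_dvr (A K : Type u) [CommRing A] [IsDomain A] [IsDiscreteValuationRing A] [Field K]
    [Algebra A K] [IsFractionRing A K] [IsLocallyNoetherian (Y A K)] : ¬ K573.Assemble.Stmt.{u} := by
  obtain ⟨ϖ, hϖ⟩ := IsDiscreteValuationRing.exists_irreducible A
  have h𝔛 : (FSch.completionAlong (Y A K) (II A K)).IsLocNoethFormal := Groth.Agent.S3854.result _ _
  obtain ⟨hnt, -, σ, hσ⟩ := K473.PowSer.facts_dvr (II A K) h𝔛.1 ϖ hϖ (UY_le A K) (isAffineOpen_UY A K)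
    (isAffineOpen_VY A K) (eU A K) (eV A K) (eU_res A K) (ideal_UY A K) (ideal_VY A K) (K471.TwoPt.U_le A K)
  have hint : ∀ i j : ULift.{u} ℕ, i ≠ j → K471.TwoPt.V A K i.down ⊓ K471.TwoPt.V A K j.down ≤
      K471.TwoPt.U A K := fun i j hij => K471.TwoPt.V_inf_le A K fun h => hij (ULift.down_injective h)
  have hcov : ⨆ i : ULift.{u} ℕ, K471.TwoPt.V A K i.down = ⊤ := by
    rw [← K471.TwoPt.iSup_V A K]
    exact Equiv.ulift.iSup_congr fun _ => rfl
  obtain ⟨G, f, g, w, hS, t, v, ht, hts⟩ := K306.CocExt.exists_ext'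
    (R := (FSch.completionAlong (Y A K) (II A K)).Osh h𝔛.1)
    (∐ fun _ : ULift.{u} ℕ => FSch.unitF (FSch.completionAlong (Y A K) (II A K)) h𝔛.1)
    (V := fun i : ULift.{u} ℕ => K471.TwoPt.V A K i.down) hint
    (fun i => app (Sigma.ι (fun _ : ULift.{u} ℕ =>
      FSch.unitF (FSch.completionAlong (Y A K) (II A K)) h𝔛.1) i) (K471.TwoPt.U A K) (K29.RPres.ofO σ))
    hcov (fun i => K471.TwoPt.U_le A K i.down)
  exact K573.Assemble.not_stmt _ h𝔛 (K471.TwoPt.U A K) (K471.TwoPt.V A K) (K471.TwoPt.η A K)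
    (K471.TwoPt.p A K) (K471.TwoPt.U_le A K) (K471.TwoPt.η_mem A K) (K471.TwoPt.p_mem A K)
    (K471.TwoPt.hU A K) (K471.TwoPt.hV A K) hnt σ hσ G f g w hS t v ht hts

/-- **S17024 is false as written.** -/
theorem refuted : ¬ (∀ (𝔛 : FSch.Sys.{u}) (h𝔛 : 𝔛.IsLocNoethFormal)
    (S : ComposableArrows (FSch.ModF 𝔛 h𝔛.1) 4) (_hS : S.Exact)
    (_h₀ : (ObjectProperty.ind.{u} fun 𝔊 : FSch.ModF 𝔛 h𝔛.1 => FSch.IsCohF 𝔛 h𝔛.1 𝔊) (S.obj 0)) (_h₁ : (ObjectProperty.ind.{u} fun 𝔊 : FSch.ModF 𝔛 h𝔛.1 => FSch.IsCohF 𝔛 h𝔛.1 𝔊) (S.obj 1)) (_h₃ : (ObjectProperty.ind.{u} fun 𝔊 : FSch.ModF 𝔛 h𝔛.1 => FSch.IsCohF 𝔛 h𝔛.1 𝔊) (S.obj 3)) (_h₄ : (ObjectProperty.ind.{u} fun 𝔊 : FSch.ModF 𝔛 h𝔛.1 => FSch.IsCohF 𝔛 h𝔛.1 𝔊) (S.obj 4)),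
    (ObjectProperty.ind.{u} fun 𝔊 : FSch.ModF 𝔛 h𝔛.1 => FSch.IsCohF 𝔛 h𝔛.1 𝔊) (S.obj 2)) :=
  not_stmt_of_dvr (PowerSeries (ULift.{u} ℚ)) (FractionRing (PowerSeries (ULift.{u} ℚ)))

end Groth.Agent.Refuted.S17024
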