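import Groth.Prelude.Def_GrLC
import Mathlib.RingTheory.GradedAlgebra.Basic
import Mathlib.RingTheory.TensorProduct.Basic
import Mathlib.RingTheory.FiniteType
import Mathlib.RingTheory.Noetherian.Defs
import Mathlib.LinearAlgebra.Span.Defs
import Mathlib.RingTheory.Ideal.Span
import Mathlib.LinearAlgebra.Dimension.Finrank
import Mathlib.Algebra.BigOperators.Group.Finset.Basic
import Groth.Agent.GrLC.K963.Iface
import Mathlib.Algebra.Field.ULift
import Mathlib.Algebra.Ring.PUnit
import Mathlib.Tactic.NormNum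
import Mathlib.LinearAlgebra.Dimension.Finite

/-!
# Refutation of `S18673` (`GrSegre.finrank_Hcomp_segreProduct_eq_of_depth_two`)

The hypotheses `R_0 = k·1`, `S_0 = k·1` of the frozen statement also hold for the zero rings. For `R = S = T = 0` all of
its hypotheses hold, and Mathlib's `Module.finrank` over the zero ring (here `GrLC.deg0`) is `1` (`rank_subsingleton`), so
that for `q = 0` the asserted equality reads `1 = 0 * 1 + 1 * 0 + 2`. The counterexample and the first Lean text are due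
to helper962, a second Lean text to helper289 (both in their files in `departures/`); this file is the second one in the
format of this folder. The corrected version (`[Nontrivial R] [Nontrivial S]`) is proved in
`Groth/Agent/Restated/S18673.lean`.
-/

set_option autoImplicit false
set_option linter.unusedVariables false
universe u
open scoped TensorProduct

namespace Groth.Agent.Refuted.S18673

/-- The frozen statement of `S18673` as a proposition. -/
def Stmt : Prop :=
  ∀ (k : Type u) [Field k] (R : Type u) [CommRing R] [Algebra k R] (𝒜 : ℤ → Submodule k R) [GradedAlgebra 𝒜] (hposR : ∀ n : ℤ, n < 0 → 𝒜 n = ⊥) (h0R : 𝒜 0 = Submodule.span k {(1 : R)}) [Algebra.FiniteType k R] (S : Type u) [CommRing S] [Algebra k S] (ℬ : ℤ → Submodule k S) [GradedAlgebra ℬ] (hposS : ∀ n : ℤ, n < 0 → ℬ n = ⊥) (h0S : ℬ 0 = Submodule.span k {(1 : S)}) [Algebra.FiniteType k S] (T : Type u) [CommRing T] [Algebra k T] (𝒯 : ℤ → Submodule k T) [GradedAlgebra 𝒯] (ψ : T →ₐ[k] TensorProduct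 k R S) (hψ : Function.Injective ψ) (hdegT : ∀ n : ℤ, (𝒯 n).map ψ.toLinearMap = Submodule.span k {x : TensorProduct k R S | ∃ a ∈ 𝒜 n, ∃ b ∈ ℬ n, x = a ⊗ₜ[k] b}) (mR : HomogeneousIdeal 𝒜) (hmR : mR.toIdeal = Ideal.span (⋃ n ∈ Set.Ioi (0 : ℤ), (𝒜 n : Set R))) (I : GrLC.StarInjRes 𝒜 𝒜) (mS : HomogeneousIdeal ℬ) (hmS : mS.toIdeal = Ideal.span (⋃ n ∈ Set.Ioi (0 : ℤ), (ℬ n : Set S))) (J : GrLC.StarInjRes ℬ ℬ) (mT : HomogeneousIdeal 𝒯) (hmT : mT.toIdeal = Ideal.span (⋃ n ∈ Set.Ioi (0 : ℤ), (𝒯 n : Set T))) (IT : GrLC.StarInjRes 𝒯 𝒯) (hR : ∀ (q : ℕ) (d : ℤ), q ≤ 1 → I.Hcomp mR q d = ⊥) (hS : ∀ (q : ℕ) (d : ℤ), q ≤ 1 → J.Hcomp mS q d = ⊥) (q : ℕ) (d : ℤ),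
    Module.finrank (GrLC.deg0 𝒯) (IT.Hcomp mT q d) = Module.finrank k (𝒜 d) * Module.finrank (GrLC.deg0 ℬ) (J.Hcomp mS q d) + Module.finrank (GrLC.deg0 𝒜) (I.Hcomp mR q d) * Module.finrank k (ℬ d) + (Finset.range (q + 2)).sum (fun i => Module.finrank (GrLC.deg0 𝒜) (I.Hcomp mR i d) * Module.finrank (GrLC.deg0 ℬ) (J.Hcomp mS (q + 1 - i) d))

/-- Every module over the zero ring has `finrank` one in Mathlib. -/
theorem finrank_zero_ring (A : Type u) [CommRing A] [Subsingleton A] (M : Type u) [AddCommGroup M]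
    [Module A M] : Module.finrank A M = 1 := by
  rw [Module.finrank, rank_subsingleton, Cardinal.one_toNat]

section ZeroRing

variable (k : Type u) [Field k] (Z : Type u) [CommRing Z] [Algebra k Z] [Subsingleton Z]

/-- The grading of the zero ring. -/
def bot : ℤ → Submodule k Z := fun _ => ⊥

instance : SetLike.GradedMonoid (bot k Z) where
  one_mem := Subsingleton.elim (0 : Z) 1 ▸ zero_mem _
  mul_mem := fun i j x y _ _ => by rw [Subsingleton.elim (x * y) 0]; exact zero_mem _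

instance (n : ℤ) : Subsingleton (bot k Z n) := ⟨fun _ _ => Subtype.ext (Subsingleton.elim _ _)⟩

instance : Subsingleton (DirectSum ℤ (fun i => bot k Z i)) := ⟨fun x y => by
    ext i; exact congrArg Subtype.val (Subsingleton.elim _ _)⟩

instance : DirectSum.Decomposition (bot k Z) where
  decompose' := fun _ => 0
  left_inv := fun _ => Subsingleton.elim _ _
  right_inv := fun _ => Subsingleton.elim _ _

instance : GradedAlgebra (bot k Z) := { }

instance : Subsingleton (Z ⊗[k] Z) := ⟨fun x y => by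
    have h1 : (1 : Z ⊗[k] Z) = 0 := by
      rw [Algebra.TensorProduct.one_def, Subsingleton.elim (1 : Z) 0, TensorProduct.zero_tmul]
    rw [← one_mul x, ← one_mul y, h1, zero_mul, zero_mul]⟩

/-- The embedding of the (zero) Segre product. -/
def psi : Z →ₐ[k] Z ⊗[k] Z where
  toFun := fun _ => 0
  map_one' := Subsingleton.elim _ _
  map_mul' := fun _ _ => Subsingleton.elim _ _
  map_zero' := rfl
  map_add' := fun _ _ => Subsingleton.elim _ _
  commutes' := fun _ => Subsingleton.elim _ _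

instance : Algebra.FiniteType k Z := ⟨⟨∅, by
    ext x; rw [Subsingleton.elim x 0]; exact ⟨fun _ => trivial, fun _ => zero_mem _⟩⟩⟩

theorem toIdeal_top : (⊤ : HomogeneousIdeal (bot k Z)).toIdeal =
    Ideal.span (⋃ n ∈ Set.Ioi (0 : ℤ), (bot k Z n : Set Z)) := by
  ext x
  rw [Subsingleton.elim x 0]
  exact ⟨fun _ => zero_mem _, fun _ => zero_mem _⟩

theorem hcomp_eq_bot (I : GrLC.StarInjRes (bot k Z) (bot k Z)) (q : ℕ) (d : ℤ) :
    I.Hcomp ⊤ q d = ⊥ := by
  have : Subsingleton (I.H ⊤ q) := Module.subsingleton Z _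
  ext x
  rw [Subsingleton.elim x 0]
  exact ⟨fun _ => zero_mem _, fun _ => zero_mem _⟩

theorem bot_zero : bot k Z 0 = Submodule.span k {(1 : Z)} := by
  ext x
  rw [Subsingleton.elim x 0]
  exact ⟨fun _ => zero_mem _, fun _ => zero_mem _⟩

theorem map_psi (n : ℤ) : (bot k Z n).map (psi k Z).toLinearMap =
    Submodule.span k {x : TensorProduct k Z Z | ∃ a ∈ bot k Z n, ∃ b ∈ bot k Z n, x = a ⊗ₜ[k] b} := by
  ext x
  rw [Subsingleton.elim x 0]
  exact ⟨fun _ => zero_mem _, fun _ => zero_mem _⟩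

instance : Subsingleton (GrLC.deg0 (bot k Z)) := ⟨fun _ _ => Subtype.ext (Subsingleton.elim _ _)⟩

end ZeroRing

/-- The frozen statement of `S18673` is false, in every universe. -/
theorem refuted : ¬ Stmt.{u} := by
  intro h
  obtain ⟨I⟩ := K963.Iface.nonempty_res (bot (ULift.{u} ℚ) (PUnit.{u + 1}))
    (bot (ULift.{u} ℚ) (PUnit.{u + 1}))
  have key := h (ULift.{u} ℚ) PUnit.{u + 1} (bot _ _) (fun _ _ => rfl) (bot_zero _ _)
    PUnit.{u + 1} (bot _ _) (fun _ _ => rfl) (bot_zero _ _)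
    PUnit.{u + 1} (bot _ _) (psi _ _) (fun _ _ _ => Subsingleton.elim _ _) (map_psi _ _)
    ⊤ (toIdeal_top _ _) I ⊤ (toIdeal_top _ _) I ⊤ (toIdeal_top _ _) I
    (fun q d _ => hcomp_eq_bot _ _ I q d) (fun q d _ => hcomp_eq_bot _ _ I q d) 0 0
  have e : ∀ (M : Type u) [AddCommGroup M] [Module (GrLC.deg0 (bot (ULift.{u} ℚ) PUnit.{u + 1})) M],
      Module.finrank (GrLC.deg0 (bot (ULift.{u} ℚ) PUnit.{u + 1})) M = 1 :=
    fun M _ _ => finrank_zero_ring _ M
  have hz : Module.finrank (ULift.{u} ℚ) (bot (ULift.{u} ℚ) PUnit.{u + 1} 0) = 0 :=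
    Module.finrank_zero_of_subsingleton
  rw [hz] at key
  simp only [e] at key
  norm_num at key

end Groth.Agent.Refuted.S18673
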