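import Groth.Agent.LefPen.K568.HirzFinal
import Groth.Agent.Lefpen.H716.HypLin
import Groth.Agent.Dual.H366.ExtQCoh
import Groth.Agent.Dual.H366.ConSec
import Mathlib.Algebra.Field.ULift
import Mathlib.FieldTheory.IsAlgClosed.AlgebraicClosure

/-!
# Refutation of `S19490` (`LefPen.hirzebruchGenus_smooth_hypersurface_generating_series`)

In the frozen statement `algebraMap (Polynomial ℤ) (PowerSeries (Polynomial ℤ))` is the algebra structure
`PowerSeries.algebraPolynomial`, so `y` is the power series variable and not the constant `C X`. For `a = 1`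
(hyperplanes) the identity then contradicts the same identity with `y = C X`, which is proved in
`K568.HirzFinal.main`. The counterexample is due to helper568, the Lean text to helper841.
-/

set_option autoImplicit false
universe u
open CategoryTheory CategoryTheory.Limits AlgebraicGeometry
open LefPen

namespace Groth.Agent.Refuted.S19490

/-- The frozen statement of `S19490` as a proposition. -/
def Stmt : Prop :=
  ∀ (k : Type u) [Field k] [IsAlgClosed k] [CharZero k]
    (a : ℕ) (ha : 1 ≤ a) (G : ∀ n : ℕ, LefPen.Form (n + 1) k a)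
    [∀ n : ℕ, SmoothOfRelativeDimension n ((LefPen.hypIdeal (G n)).subschemeι ≫ CohB1.ProjSpace.toSpec (n + 1) k)]
    [hO : ∀ n : ℕ, (LefPen.hypIdeal (G n)).subscheme.Over (Spec (CommRingCat.of k))]
    (hover : ∀ n : ℕ, (LefPen.hypIdeal (G n)).subscheme ↘ Spec (CommRingCat.of k) = ((LefPen.hypIdeal (G n)).subschemeι ≫ CohB1.ProjSpace.toSpec (n + 1) k))
    (L : ∀ n : ℕ, ℕ → (LefPen.hypIdeal (G n)).subscheme.Modules)
    (hL : ∀ n p : ℕ, ExtPow.IsExtPow p (Omega.sheaf ((LefPen.hypIdeal (G n)).subschemeι ≫ CohB1.ProjSpace.toSpec (n + 1) k)) (L n p))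
    (χ : ℕ → Polynomial ℤ)
    (hχ : ∀ n : ℕ, χ n = ∑ p ∈ Finset.range (n + 1),
      Polynomial.C (∑ q ∈ Finset.range (n + 1), (-1 : ℤ) ^ q * (Module.finrank k (Coh.HH (LefPen.hypIdeal (G n)).subscheme (L n p) q) : ℤ)) *
        Polynomial.X ^ p)
    (y : PowerSeries (Polynomial ℤ)) (hy : y = algebraMap (Polynomial ℤ) (PowerSeries (Polynomial ℤ)) Polynomial.X),
    (1 - PowerSeries.X) * (1 + y * PowerSeries.X) *
        ((1 + y * PowerSeries.X) ^ a + y * (1 - PowerSeries.X) ^ a) *
        (PowerSeries.X * PowerSeries.mk χ) =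
      (1 + y * PowerSeries.X) ^ a - (1 - PowerSeries.X) ^ a

open Polynomial in
theorem ps_aux (χ : ℕ → Polynomial ℤ)
    (h1 : ((1 : PowerSeries (Polynomial ℤ)) - PowerSeries.X) * (1 + PowerSeries.X * PowerSeries.X) *
        ((1 + PowerSeries.X * PowerSeries.X) ^ 1 + PowerSeries.X * (1 - PowerSeries.X) ^ 1) *
        (PowerSeries.X * PowerSeries.mk χ) =
      (1 + PowerSeries.X * PowerSeries.X) ^ 1 - (1 - PowerSeries.X) ^ 1)
    (h2 : ((1 : PowerSeries (Polynomial ℤ)) - PowerSeries.X) * (1 + PowerSeries.C (Polynomial.X : Polynomial ℤ) * PowerSeries.X) *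
        ((1 + PowerSeries.C (Polynomial.X : Polynomial ℤ) * PowerSeries.X) ^ 1 + PowerSeries.C (Polynomial.X : Polynomial ℤ) * (1 - PowerSeries.X) ^ 1) *
        (PowerSeries.X * PowerSeries.mk χ) =
      (1 + PowerSeries.C (Polynomial.X : Polynomial ℤ) * PowerSeries.X) ^ 1 - (1 - PowerSeries.X) ^ 1) : False := by
  set S := PowerSeries.mk χ with hS
  have hX : (PowerSeries.X : PowerSeries (Polynomial ℤ)) ≠ 0 := PowerSeries.X_ne_zero
  have e1 : S - PowerSeries.X ^ 4 * S = 1 + PowerSeries.X := by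
    apply mul_left_cancel₀ hX
    linear_combination h1
  have e2 : PowerSeries.C (1 + Polynomial.X : Polynomial ℤ) * (S - PowerSeries.X * S + PowerSeries.X * (PowerSeries.C (Polynomial.X : Polynomial ℤ) * S)
      - PowerSeries.X ^ 2 * (PowerSeries.C (Polynomial.X : Polynomial ℤ) * S)) = PowerSeries.C (1 + Polynomial.X : Polynomial ℤ) := by
    apply mul_left_cancel₀ hX
    rw [map_add, map_one]
    linear_combination h2
  have c0 := congrArg (PowerSeries.coeff 0) e1
  have c1 := congrArg (PowerSeries.coeff 1) e1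
  have d1 := congrArg (PowerSeries.coeff 1) e2
  rw [map_sub, PowerSeries.coeff_X_pow_mul', if_neg (by norm_num), map_add] at c0 c1
  rw [PowerSeries.coeff_C_mul, map_sub, map_add, map_sub, PowerSeries.coeff_X_pow_mul', if_neg (by norm_num),
    show (1 : ℕ) = 0 + 1 from rfl, PowerSeries.coeff_succ_X_mul, PowerSeries.coeff_succ_X_mul, PowerSeries.coeff_C_mul,
    PowerSeries.coeff_C, if_neg (by norm_num)] at d1
  simp only [PowerSeries.coeff_one, PowerSeries.coeff_X, sub_zero] at c0 c1
  norm_num at c0 c1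
  have hne : (1 + Polynomial.X : Polynomial ℤ) ≠ 0 := by
    intro h
    have := congrArg (Polynomial.eval 0) h
    simp at this
  rw [mul_eq_zero, or_iff_right hne] at d1
  have h0 : (PowerSeries.coeff 0) S = 1 := by simpa using c0
  have h1' : (PowerSeries.coeff (0 + 1)) S = 1 := by simpa using c1
  rw [h1', h0] at d1
  have := congrArg (Polynomial.eval 1) d1
  simp at this

theorem refute_aux (k : Type u) [Field k] [IsAlgClosed k] [CharZero k] (H : Stmt.{u}) : False := by
  let G : ∀ n : ℕ, LefPen.Form (n + 1) k 1 := fun n => ⟨MvPolynomial.X 0, LefPen.X_mem (n + 1) k 0⟩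
  have hsm : ∀ n : ℕ, SmoothOfRelativeDimension n
      ((LefPen.hypIdeal (G n)).subschemeι ≫ CohB1.ProjSpace.toSpec (n + 1) k) :=
    fun n => Groth.Agent.Lefpen.H716.HypLin.smooth_hyperplane n k 0 _
  letI hO : ∀ n : ℕ, (LefPen.hypIdeal (G n)).subscheme.Over (Spec (CommRingCat.of k)) :=
    fun n => ⟨(LefPen.hypIdeal (G n)).subschemeι ≫ CohB1.ProjSpace.toSpec (n + 1) k⟩
  choose L hL using fun n p : ℕ => Groth.Agent.Dual.H366.ExtQCoh.exists_isExtPow p
    (Groth.Agent.Dual.H366.ConSec.isQCoh_omega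
      ((LefPen.hypIdeal (G n)).subschemeι ≫ CohB1.ProjSpace.toSpec (n + 1) k))
  let χ : ℕ → Polynomial ℤ := fun n => ∑ p ∈ Finset.range (n + 1),
      Polynomial.C (∑ q ∈ Finset.range (n + 1), (-1 : ℤ) ^ q *
        (Module.finrank k (Coh.HH (LefPen.hypIdeal (G n)).subscheme (L n p) q) : ℤ)) * Polynomial.X ^ p
  have h1 := H k 1 le_rfl G (fun n => rfl) L hL χ (fun n => rfl) _ rfl
  have h2 := K568.HirzFinal.main k 1 le_rfl G (fun n => rfl) L hL χ (fun n => rfl) _ rfl
  have hy : (algebraMap (Polynomial ℤ) (PowerSeries (Polynomial ℤ)) Polynomial.X) = PowerSeries.X := by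
    rw [PowerSeries.algebraMap_apply', Polynomial.coe_X, PowerSeries.map_X]
  rw [hy] at h1
  exact ps_aux χ h1 h2

/-- The frozen statement of `S19490` is false, in every universe. -/
theorem refuted : ¬ Stmt.{u} := by
  intro H
  have i0 : CharZero (ULift.{u} ℚ) := ⟨fun a b h => by
    have := congrArg ULift.down h
    simpa using this⟩
  have i1 : CharZero (AlgebraicClosure (ULift.{u} ℚ)) := charZero_of_injective_algebraMap
    (algebraMap (ULift.{u} ℚ) (AlgebraicClosure (ULift.{u} ℚ))).injective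
  exact refute_aux (AlgebraicClosure (ULift.{u} ℚ)) H

end Groth.Agent.Refuted.S19490
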