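import Groth.Prelude.Def_GrSeg
import Groth.Prelude.Def_GrLC
import Mathlib.RingTheory.GradedAlgebra.Basic
import Mathlib.RingTheory.TensorProduct.Basic
import Mathlib.RingTheory.FiniteType
import Mathlib.LinearAlgebra.Span.Defs
import Mathlib.RingTheory.Ideal.Span
import Mathlib.LinearAlgebra.Dimension.Finrank
import Mathlib.Algebra.BigOperators.Group.Finset.Basic
import Mathlib.RingTheory.Finiteness.Defs
import Groth.Agent.Refuted.S18673

/-!
# Refutation of `S19765` (`GrSegre.finrank_Hcomp_segreProduct_modules_eq_of_depth_two`)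

The hypotheses `R_0 = k·1`, `S_0 = k·1` of the frozen statement also hold for the zero rings. For
`R = S = T = M = N = P = 0` all of its hypotheses hold, and Mathlib's `Module.finrank` over the zero ring (here
`GrLC.deg0`) is `1` (`rank_subsingleton`), so that for `q = 0` the asserted equality reads `1 = 1 * 1 + 1 * 1 + 2`. The
counterexample and the first Lean text are due to helper963 (`departures/helper963.md`); this file is that text in the
format of this folder. The corrected version (`[Nontrivial R] [Nontrivial S]`) is proved in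
`Groth/Agent/Restated/S19765.lean`.
-/

set_option autoImplicit false
set_option linter.unusedVariables false
universe u
open scoped TensorProduct

namespace Groth.Agent.Refuted.S19765

open Groth.Agent.Refuted.S18673 (bot psi finrank_zero_ring toIdeal_top bot_zero)

/-- The frozen statement of `S19765` as a proposition. -/
def Stmt : Prop :=
  ∀ (k : Type u) [Field k] (R : Type u) [CommRing R] [Algebra k R] (𝒜 : ℤ → Submodule k R) [GradedAlgebra 𝒜] (hposR : ∀ n : ℤ, n < 0 → 𝒜 n = ⊥) (h0R : 𝒜 0 = Submodule.span k {(1 : R)}) [Algebra.FiniteType k R] (S : Type u) [CommRing S] [Algebra k S] (ℬ : ℤ → Submodule k S) [GradedAlgebra ℬ] (hposS : ∀ n : ℤ, n < 0 → ℬ n = ⊥) (h0S : ℬ 0 = Submodule.span k {(1 : S)}) [Algebra.FiniteType k S] (T : Type u) [CommRing T] [Algebra k T] (𝒯 : ℤ → Submodule k T) [GradedAlgebra 𝒯] (ψ : T →ₐ[k] TensorProduct k R S) (hT : GrSeg.IsSegreRing 𝒜 ℬ 𝒯 ψ) (mR : HomogeneousIdeal 𝒜) (hmR : mR.toIdeal = Ideal.span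 (⋃ n ∈ Set.Ioi (0 : ℤ), (𝒜 n : Set R))) (mS : HomogeneousIdeal ℬ) (hmS : mS.toIdeal = Ideal.span (⋃ n ∈ Set.Ioi (0 : ℤ), (ℬ n : Set S))) (mT : HomogeneousIdeal 𝒯) (hmT : mT.toIdeal = Ideal.span (⋃ n ∈ Set.Ioi (0 : ℤ), (𝒯 n : Set T))) (M : Type u) [AddCommGroup M] [Module R M] [Module k M] [IsScalarTower k R M] (ℳ : ℤ → AddSubgroup M) [DirectSum.Decomposition ℳ] [SetLike.GradedSMul 𝒜 ℳ] [Module.Finite R M] (EM : GrLC.StarInjRes 𝒜 ℳ) (N : Type u) [AddCommGroup N] [Module S N] [Module k N] [IsScalarTower k S N] (𝒩 : ℤ → AddSubgroup N) [DirectSum.Decomposition 𝒩] [SetLike.GradedSMul ℬ 𝒩] [Module.Finite S N] (EN : GrLC.StarInjRes ℬ 𝒩) (P : Type u) [AddCommGroup P] [Module T P] [Module k P] [IsScalarTower k T P] (𝒬 : ℤ → AddSubgroup P) [DirectSum.Decomposition 𝒬] [SetLike.GradedSMul 𝒯 𝒬] (φ : P →ₗ[k] TensorProduct k M N) (hP : GrSeg.IsSegreMod ψ ℳ 𝒩 𝒬 φ) (EP : GrLC.StarInjRes 𝒯 𝒬) (hM : ∀ (q : ℕ) (d : ℤ), q ≤ 1 → EM.Hcomp mR q d = ⊥)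 (hN : ∀ (q : ℕ) (d : ℤ), q ≤ 1 → EN.Hcomp mS q d = ⊥) (q : ℕ) (d : ℤ),
    Module.finrank (GrLC.deg0 𝒯) (EP.Hcomp mT q d) = Module.finrank (GrLC.deg0 𝒜) (GrLC.comp 𝒜 ℳ d) * Module.finrank (GrLC.deg0 ℬ) (EN.Hcomp mS q d) + Module.finrank (GrLC.deg0 𝒜) (EM.Hcomp mR q d) * Module.finrank (GrLC.deg0 ℬ) (GrLC.comp ℬ 𝒩 d) + (Finset.range (q + 2)).sum (fun i => Module.finrank (GrLC.deg0 𝒜) (EM.Hcomp mR i d) * Module.finrank (GrLC.deg0 ℬ) (EN.Hcomp mS (q + 1 - i) d))

section ZeroRing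

variable (k : Type u) [Field k] (Z : Type u) [CommRing Z] [Algebra k Z] [Subsingleton Z]

/-- The grading of the zero module. -/
def zer : ℤ → AddSubgroup Z := fun _ => ⊥

instance (n : ℤ) : Subsingleton (zer Z n) := ⟨fun _ _ => Subtype.ext (Subsingleton.elim _ _)⟩

instance : Subsingleton (DirectSum ℤ (fun i => zer Z i)) := ⟨fun x y => by
    ext i; exact congrArg Subtype.val (Subsingleton.elim _ _)⟩

instance : DirectSum.Decomposition (zer Z) where
  decompose' := fun _ => 0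
  left_inv := fun _ => Subsingleton.elim _ _
  right_inv := fun _ => Subsingleton.elim _ _

instance : SetLike.GradedSMul (bot k Z) (zer Z) := ⟨fun {i j} x y _ _ => by
    rw [Subsingleton.elim (x • y) 0]; exact zero_mem _⟩

theorem hcomp_eq_bot (I : GrLC.StarInjRes (bot k Z) (zer Z)) (q : ℕ) (d : ℤ) :
    I.Hcomp ⊤ q d = ⊥ := by
  have : Subsingleton (I.H ⊤ q) := Module.subsingleton Z _
  ext x
  rw [Subsingleton.elim x 0]
  exact ⟨fun _ => zero_mem _, fun _ => zero_mem _⟩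

theorem isSegreRing : GrSeg.IsSegreRing (bot k Z) (bot k Z) (bot k Z) (psi k Z) :=
  ⟨fun _ _ _ => Subsingleton.elim _ _, fun n => by
    ext x; rw [Subsingleton.elim x 0]; exact ⟨fun _ => zero_mem _, fun _ => zero_mem _⟩⟩

theorem isSegreMod : GrSeg.IsSegreMod (psi k Z) (zer Z) (zer Z) (zer Z) (0 : Z →ₗ[k] Z ⊗[k] Z) where
  injective := fun _ _ _ => Subsingleton.elim _ _
  image_piece := fun n => by
    ext x
    rw [Subsingleton.elim x 0]
    exact ⟨fun _ => zero_mem _, fun _ => ⟨0, zero_mem _, Subsingleton.elim _ _⟩⟩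
  map_smul := fun _ _ => Subsingleton.elim _ _

end ZeroRing

/-- The frozen statement of `S19765` is false, in every universe. -/
theorem refuted : ¬ Stmt.{u} := by
  intro h
  obtain ⟨I⟩ := K963.Iface.nonempty_res (bot (ULift.{u} ℚ) (PUnit.{u + 1})) (zer (PUnit.{u + 1}))
  have key := h (ULift.{u} ℚ) PUnit.{u + 1} (bot _ _) (fun _ _ => rfl) (bot_zero _ _)
    PUnit.{u + 1} (bot _ _) (fun _ _ => rfl) (bot_zero _ _)
    PUnit.{u + 1} (bot _ _) (psi _ _) (isSegreRing _ _)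
    ⊤ (toIdeal_top _ _) ⊤ (toIdeal_top _ _) ⊤ (toIdeal_top _ _)
    PUnit.{u + 1} (zer _) I PUnit.{u + 1} (zer _) I PUnit.{u + 1} (zer _) 0 (isSegreMod _ _) I
    (fun q d _ => hcomp_eq_bot _ _ I q d) (fun q d _ => hcomp_eq_bot _ _ I q d) 0 0
  have e : ∀ (M : Type u) [AddCommGroup M] [Module (GrLC.deg0 (bot (ULift.{u} ℚ) PUnit.{u + 1})) M],
      Module.finrank (GrLC.deg0 (bot (ULift.{u} ℚ) PUnit.{u + 1})) M = 1 :=
    fun M _ _ => finrank_zero_ring _ M
  simp only [e] at key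
  norm_num at key

end Groth.Agent.Refuted.S19765
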