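import Groth.Agent.Refuted.K727.Model
import Groth.Agent.Refuted.K727.ConcreteU
import Groth.Agent.Refuted.K728.NoWeak

/-!
# The frozen statement S7162 is false

`S7162` claims: for every extension `A → B` of discrete valuation rings there is a square of extensions
`A → A'`, `B → B'`, `A' → B'` of discrete valuation rings, with `K'/K`, `L'/L` separable and the residue fields of
`A'`, `B'` separable closures of those of `A`, `B`, such that (among other things) a weak solution for `A' → B'` implies
a weak solution for `A → B`. This clause fails: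

* `k = 𝔽₂(t)`, `A = k⟦π⟧`, `K = Frac A`, `Ω` an algebraic closure of `K`, `V` the valuation ring of `Ω` over `A`,
  `α ∈ 𝔽₄ ∖ 𝔽₂`, `T = t + α π`, `N = K(k^sep)(T^(1/2^∞))`, `y² - y = T / π²`, `L = N(y)`, `B = V ∩ L`
  (`Refuted.K284.Laurent2`, `Refuted.K727.ConcreteU`, `Refuted.K728.Tower`);
* every admissible square over `A → B` has a weak solution (`K287.HalfE`, applied in `Refuted.K727.Model`);
* there is no weak solution for `A → B` (`Refuted.K728.NoWeak`, with `Refuted.K727.Dict`, `Refuted.K845`,
  `Refuted.K972`, `Refuted.K775`, `Refuted.K375`, `Refuted.K728.Descent`, `Refuted.K728.Ending`).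

`Stmt.{u}` (in `Refuted.K727.Stmt`) is the frozen statement, word for word; it is refuted in every universe.
-/

set_option autoImplicit false
universe u

namespace Groth.Agent.Refuted.S7162

open IsLocalRing Polynomial EtRam Groth.Agent.Etalg K727 K727.ConcreteU K284

/-- **The frozen statement S7162 is false** (in every universe). -/
theorem refuted : ¬ Stmt.{u} := by
  obtain ⟨V, hV⟩ := exists_V.{u}
  obtain ⟨al, hal⟩ := exists_al.{u}
  obtain ⟨g, hg⟩ := exists_g hal
  obtain ⟨T, hT0, hT⟩ := exists_T (algebraMap kU.{u} OU.{u} tU + algebraMap AU.{u} OU.{u} PowerSeries.X * al)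
  obtain ⟨y, hy⟩ := exists_y (T 0 / algebraMap AU.{u} OU.{u} PowerSeries.X ^ 2)
  obtain ⟨w, hw⟩ := K728.NoWeak.exists_unif_L (K := KU.{u}) V hV 2 exists_const tU tU_ne_sq PowerSeries.X irreducible_X al
    (al_pow hal) T hT0 hT y
  have hdvr : IsDiscreteValuationRing (V.comap (algebraMap (fieldL kU.{u} KU.{u} T y) OU.{u})) := hw.isDVR
  refine not_stmt_of_valuationSubring V hV (fieldL kU.{u} KU.{u} T y) ?_ ?_
  · intro _ _
    exact halfE 2 V hV tU (ZMod.castHom dvd_rfl AU.{u}) (exists_frac _) PowerSeries.X
      ((mem_maximalIdeal _).2 irreducible_X.not_isUnit) al (al_pow hal) T hT0 hT y hy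
  · intro K₁ _ _ _
    exact K728.NoWeak.not_isWeakSolution (K := KU.{u}) V hV 2 exists_const prk tU tU_ne_sq PowerSeries.X irreducible_X al
      (al_pow hal) T hT0 hT g hg y hy (fieldL kU.{u} KU.{u} T y) le_sup_left (y_mem T y) K₁

end Groth.Agent.Refuted.S7162
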