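import Groth.Agent.Refuted.K616.StmtDef
import Groth.Agent.Refuted.K616.Cond
import Groth.Agent.Refuted.K616.EZero
import Groth.Agent.Refuted.K42.HesseAct
import Mathlib.Algebra.Field.ULift
import Mathlib.FieldTheory.IsAlgClosed.AlgebraicClosure

/-!
# Refutation of `S8381` (`SGA3t2b.exists_regular_mem_lie_maximalTorus_of_infinite`)

The frozen statement: `G` a smooth quasi-compact group scheme over an infinite field `k`, `T` a maximal torus of `G`; then
`Lie(T)(k)` contains a regular element of the Lie algebra `Lie(G)(k)`.  Nothing requires `G` to be affine, and without that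
hypothesis it is false.

Counterexample (characteristic `p = 3`, `k` algebraically closed). Let `E = V_+(X³ + Y³ + Z³ - XYZ) ⊂ P²`, an elliptic curve
(`HesseCurve`, from `S7840` and `S7916`) with origin `(1 : -1 : 0)`. The linear action `(X : Y : Z) ↦ (X : zY : z²Z)` of `μ₃`
(`K42.HesseAct`) is by translations through a monomorphism of groups `ψ : μ₃ ⟶ E` by the rigidity lemma (`Rigid`). Put

* `C = (𝔾_m × E)/μ₃` (`z ↦ (z, ψ(z)⁻¹)`), a smooth commutative group, `T = image of 𝔾_m`, `χ : C ⟶ 𝔾_m`, `(t, e) ↦ t³`;
* `G = 𝔾_a ⋊_χ C`.

`T` is a maximal torus of `G` since `C/T = E/ψ(μ₃)` is proper and `T` acts on `𝔾_a` through the non-trivial character `t³`.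
The differential of `χ` vanishes on `Lie(T)` (`p = 3`), so `ad w = 0` for `w ∈ Lie(T)`, but it does not vanish on `Lie(C)`,
because the kernel `E` of `χ` is smooth; so `ad y` is not nilpotent for some `y ∈ Lie(C)`, the rank of `Lie(G)` is smaller
than its dimension and no `w ∈ Lie(T)` is regular.

The error was found by helper447; this counterexample by helper545, helper270, helper687, helper982 and helper616
independently. Lean text: helper672 (`K672.Core`: `G = 𝔾_a ⋊_χ C` and its Lie algebra), helper8 (`K8.MTMax`, `K8.Fin`:
maximality of the torus, finiteness), helper270 (`K270.E1`: `C = (𝔾_m × E)/μ_p`, `χ`), helper42 (`K42.HesseAct`: the action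
of `μ₃` on the cubic), helper616 (rigidity, curve, assembly; job 604). `Stmt` is the type of the frozen constant
`SGA3t2b.GrothFrozen.S8381`; `refuted` holds in every universe.
-/

set_option autoImplicit false
universe u
open CategoryTheory MonoidalCategory CartesianMonoidalCategory MonObj GrpObj AlgebraicGeometry

namespace Groth.Agent.Refuted.S8381

/-- `S8381` fails for every algebraically closed field of characteristic three. -/
theorem refuted_of (k : Type u) [Field k] [IsAlgClosed k] [CharP k 3] : ¬ Stmt.{u} := by
  have : Fact (Nat.Prime 3) := ⟨by norm_num⟩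
  have : Infinite k := IsAlgClosed.instInfinite
  obtain ⟨o, a, h⟩ := K42.Hesse.P1b k
  obtain ⟨A, _, _, _, _, m, _, _⟩ := K616.exists_ell k o a h
  obtain ⟨n, _, hn⟩ := K616.exists_mu k 3
  exact not_stmt_of k 3 A (Red.diag k (ZMod 3)) n hn m

/-- **The frozen statement of `S8381` is false.** -/
theorem refuted : ¬ Stmt.{u} := by
  let F : Type u := ULift.{u} (ZMod 3)
  have : Fact (Nat.Prime 3) := ⟨by norm_num⟩
  let _ : Field F := ULift.field
  have h1 : CharP F 3 := charP_of_injective_ringHom (f := (ULift.ringEquiv.symm : ZMod 3 ≃+* F).toRingHom)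
    (ULift.ringEquiv.symm : ZMod 3 ≃+* F).injective 3
  have h2 : CharP (AlgebraicClosure F) 3 :=
    charP_of_injective_algebraMap (algebraMap F (AlgebraicClosure F)).injective 3
  exact refuted_of (AlgebraicClosure F)

end Groth.Agent.Refuted.S8381
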